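import Cfsg.Agent.Lib.ThInvol.BridgeCheck

/-!
# The summand of degree 52 for the subgroup on a, b, c, d, e, s, t
-/

set_option autoImplicit false
set_option maxRecDepth 100000
set_option linter.constructorNameAsVariable false

namespace CfsgLib.ThInvol

open Cfsg.Spor ThRep ThRep.ModThree Matrix

attribute [local irreducible] matGens evalP matWords

theorem pair_eq {p : List ℕ × List ℕ} (hp : p ∈ pairs) :
    (p.1.map fun g => genMat 248 (allG.getD g [])).prod =
      (p.2.map fun g => genMat 248 (allG.getD g [])).prod := by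
  have h := List.all_eq_true.1 pairs_ok p hp
  simp only [Bool.and_eq_true, List.all_eq_true, Nat.blt_eq, pairOk, evG_eq] at h
  obtain ⟨⟨h1, h2⟩, h3⟩ := h
  have hok : ∀ w : List ℕ, (∀ g ∈ w, g < 28) → ∀ g ∈ w, okGen 248 (allG.getD g []) = true :=
    fun w hw g hg => List.all_eq_true.1 allG_ok g (List.mem_range.2 (hw g hg))
  obtain ⟨a1, a2, a3, a4⟩ := eval_spec allG mat_hid p.1 (hok _ h1)
  obtain ⟨b1, b2, b3, b4⟩ := eval_spec allG mat_hid p.2 (hok _ h2)
  have he := eq_of_beqL h3
  rw [a1, b1] at he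
  rw [← a4, ← b4, show evalL 248 allG p.1 = evalL 248 allG p.2 from ?_]
  refine List.ext_getElem (a3.trans b3.symm) fun i i1 i2 => ?_
  have hi : pk ((evalL 248 allG p.1)[i]) = pk ((evalL 248 allG p.2)[i]) := by
    have := congrArg (fun l : List ℕ => l.getD i 0) he
    rwa [List.getD_eq_getElem _ 0 (show i < ((evalL 248 allG p.1).map pk).length by simpa using i1),
      List.getD_eq_getElem _ 0 (show i < ((evalL 248 allG p.2).map pk).length by simpa using i2),
      List.getElem_map, List.getElem_map] at this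
  obtain ⟨l1, c1⟩ := a2 _ (List.getElem_mem i1)
  obtain ⟨l2, c2⟩ := b2 _ (List.getElem_mem i2)
  exact pk_inj (l1.trans l2.symm) c1 c2 hi

attribute [local irreducible] allG

/-- The map into degree 52. -/
noncomputable def psi (x : Cfsg.Spor.Th) : Matrix (Fin 52) (Fin 52) (ZMod 3) := piMat * rhoM x * ioMat

theorem left_cancel {m : Type*} {A B : Matrix (Fin 52) m (ZMod 3)} (h : incl * A = incl * B) :
    A = B := by
  have := congrArg (fun M => inclᵀ * M) h
  simpa only [← Matrix.mul_assoc, incl_self, Matrix.one_mul] using this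

theorem right_cancel {m : Type*} {A B : Matrix m (Fin 52) (ZMod 3)} (h : A * inclᵀ = B * inclᵀ) :
    A = B := by
  have := congrArg (fun M => M * incl) h
  simpa only [Matrix.mul_assoc, incl_self, Matrix.mul_one] using this

theorem lm_mem {g : ℕ} (hg : g < 16) : genMat 248 (allG.getD g []) = rhoM (elt [g]) := by
  rw [allG_low hg, rho_elt (by simpa using hg)]
  simp [lm]

theorem pi_gen {i : ℕ} (hi : i < 7) :
    piMat * rhoM (elt [2 * i]) = decM (sqLits.getD i 0) * piMat := by
  have h := pair_eq (p := ([16, 2 * i], [18 + i, 16])) (List.mem_append_left _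
    (List.mem_append_left _ (List.mem_map.2 ⟨i, List.mem_range.2 hi, rfl⟩)))
  simp only [List.map_cons, List.map_nil, List.prod_cons, List.prod_nil, Matrix.mul_one, mul_one,
    allG_pi, allG_sq (k := i) (show i < 10 by omega), lm_mem (show 2 * i < 16 by omega),
    genMat_piG, genMat_sqG] at h
  refine left_cancel ?_
  rw [← Matrix.mul_assoc, h]
  simp only [Matrix.mul_assoc]
  rw [← Matrix.mul_assoc inclᵀ incl, incl_self, Matrix.one_mul]

theorem io_gen {i : ℕ} (hi : i < 7) :
    rhoM (elt [2 * i]) * ioMat = ioMat * decM (sqLits.getD i 0) := by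
  have h := pair_eq (p := ([2 * i, 17], [17, 18 + i])) (List.mem_append_left _
    (List.mem_append_right _ (List.mem_map.2 ⟨i, List.mem_range.2 hi, rfl⟩)))
  simp only [List.map_cons, List.map_nil, List.prod_cons, List.prod_nil, Matrix.mul_one, mul_one,
    allG_io, allG_sq (k := i) (show i < 10 by omega), lm_mem (show 2 * i < 16 by omega),
    genMat_ioG, genMat_sqG] at h
  refine right_cancel ?_
  rw [Matrix.mul_assoc, h]
  simp only [Matrix.mul_assoc]
  rw [← Matrix.mul_assoc inclᵀ incl, incl_self, Matrix.one_mul]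

theorem one_entries : ((List.range 2704).all fun t =>
    Nat.beq ((oneLit >>> (16 * t)) % slot) (if Nat.beq (t % 53) 0 then 1 else 0)) = true := by
  decide +kernel

theorem decM_one : decM oneLit = 1 := by
  ext i j
  have hi := i.isLt
  have hj := j.isLt
  have h := List.all_eq_true.1 one_entries (52 * i.val + j.val) (List.mem_range.2 (by omega))
  rw [Nat.beq_eq] at h
  rw [decM, Matrix.of_apply, h, Matrix.one_apply]
  by_cases e : i = j
  · subst e
    rw [if_pos (by rw [Nat.beq_eq]; omega), if_pos rfl, Nat.cast_one]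
  · have : i.val ≠ j.val := fun h' => e (Fin.ext h')
    rw [if_neg (by rw [Nat.beq_eq]; omega), if_neg e, Nat.cast_zero]

theorem pi_io : piMat * ioMat = 1 := by
  have h := pair_eq (p := ([16, 17], [25])) (List.mem_append_right _ (by simp))
  simp only [List.map_cons, List.map_nil, List.prod_cons, List.prod_nil, Matrix.mul_one, mul_one,
    allG_pi, allG_io, show (25 : ℕ) = 18 + 7 from rfl, allG_sq (k := 7) (show 7 < 10 by norm_num),
    genMat_piG, genMat_ioG, genMat_sqG, show sqLits.getD 7 0 = oneLit from rfl, decM_one] at h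
  refine right_cancel (left_cancel ?_)
  simp only [Matrix.mul_assoc, Matrix.one_mul] at h ⊢
  exact h

attribute [local irreducible] piMat ioMat rhoM decM

/-- The part of the group that respects both maps. -/
def respects : Subgroup Cfsg.Spor.Th where
  carrier := {x | piMat * rhoM x = psi x * piMat ∧ rhoM x * ioMat = ioMat * psi x}
  one_mem' := by
    simp only [Set.mem_setOf_eq, psi, rhoM_one, Matrix.mul_one, Matrix.one_mul, pi_io, and_self]
  mul_mem' {x y} hx hy := by
    simp only [Set.mem_setOf_eq] at hx hy ⊢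
    have e : psi (x * y) = psi x * psi y := by
      rw [psi, rhoM_mul, ← Matrix.mul_assoc piMat, hx.1]
      simp only [psi, Matrix.mul_assoc]
    constructor
    · rw [e, rhoM_mul, ← Matrix.mul_assoc, hx.1, Matrix.mul_assoc, hy.1, ← Matrix.mul_assoc]
    · rw [e, rhoM_mul, Matrix.mul_assoc, hy.2, ← Matrix.mul_assoc, hx.2, Matrix.mul_assoc]
  inv_mem' {x} hx := by
    simp only [Set.mem_setOf_eq] at hx ⊢
    have e1 : psi x⁻¹ * psi x = 1 := by
      calc psi x⁻¹ * psi x = piMat * rhoM x⁻¹ * (ioMat * psi x) := by simp only [psi, Matrix.mul_assoc]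
        _ = piMat * (rhoM x⁻¹ * rhoM x) * ioMat := by rw [← hx.2]; simp only [Matrix.mul_assoc]
        _ = 1 := by rw [← rhoM_mul, inv_mul_cancel, rhoM_one, Matrix.mul_one, pi_io]
    have e2 : psi x * psi x⁻¹ = 1 := by
      calc psi x * psi x⁻¹ = psi x * piMat * rhoM x⁻¹ * ioMat := by simp only [psi, Matrix.mul_assoc]
        _ = piMat * (rhoM x * rhoM x⁻¹) * ioMat := by rw [← hx.1]; simp only [Matrix.mul_assoc]
        _ = 1 := by rw [← rhoM_mul, mul_inv_cancel, rhoM_one, Matrix.mul_one, pi_io]
    constructor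
    · calc piMat * rhoM x⁻¹ = psi x⁻¹ * (psi x * piMat) * rhoM x⁻¹ := by
            rw [← Matrix.mul_assoc (psi x⁻¹), e1, Matrix.one_mul]
        _ = psi x⁻¹ * piMat * (rhoM x * rhoM x⁻¹) := by rw [← hx.1]; simp only [Matrix.mul_assoc]
        _ = psi x⁻¹ * piMat := by rw [← rhoM_mul, mul_inv_cancel, rhoM_one, Matrix.mul_one]
    · calc rhoM x⁻¹ * ioMat = rhoM x⁻¹ * ((ioMat * psi x) * psi x⁻¹) := by
            rw [Matrix.mul_assoc ioMat, e2, Matrix.mul_one]
        _ = (rhoM x⁻¹ * rhoM x) * ioMat * psi x⁻¹ := by rw [← hx.2]; simp only [Matrix.mul_assoc]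
        _ = ioMat * psi x⁻¹ := by rw [← rhoM_mul, inv_mul_cancel, rhoM_one, Matrix.one_mul]

theorem mem_respects {x : Cfsg.Spor.Th} :
    x ∈ respects ↔ piMat * rhoM x = psi x * piMat ∧ rhoM x * ioMat = ioMat * psi x := Iff.rfl

theorem psi_mul {x : Cfsg.Spor.Th} (hx : x ∈ respects) (y : Cfsg.Spor.Th) :
    psi (x * y) = psi x * psi y := by
  rw [psi, rhoM_mul, ← Matrix.mul_assoc piMat, (mem_respects.1 hx).1]
  simp only [psi, Matrix.mul_assoc]

theorem psi_mul_right (x : Cfsg.Spor.Th) {y : Cfsg.Spor.Th} (hy : y ∈ respects) :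
    psi (x * y) = psi x * psi y := by
  calc psi (x * y) = piMat * rhoM x * (rhoM y * ioMat) := by simp only [psi, rhoM_mul, Matrix.mul_assoc]
    _ = psi x * psi y := by rw [(mem_respects.1 hy).2]; simp only [psi, Matrix.mul_assoc]

theorem psi_one : psi 1 = 1 := by rw [psi, rhoM_one, Matrix.mul_one, pi_io]

theorem psi_gen {i : ℕ} (hi : i < 7) : psi (elt [2 * i]) = decM (sqLits.getD i 0) := by
  rw [psi, pi_gen hi, Matrix.mul_assoc, pi_io, Matrix.mul_one]

theorem gen_mem {i : ℕ} (hi : i < 7) : elt [2 * i] ∈ respects := by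
  rw [mem_respects, psi_gen hi]
  exact ⟨pi_gen hi, io_gen hi⟩

theorem psi_word {k : ℕ} (hk : k < 10) (w : List ℕ) (hw : ∀ g ∈ w, g < 16)
    (hp : (16 :: (w ++ [17]), [18 + k]) ∈ pairs) : psi (elt w) = decM (sqLits.getD k 0) := by
  have h := pair_eq hp
  simp only [List.map_cons, List.map_nil, List.map_append, List.prod_cons, List.prod_nil,
    List.prod_append, Matrix.mul_one, mul_one, allG_pi, allG_io, allG_sq (k := k) hk,
    genMat_piG, genMat_ioG, genMat_sqG] at h
  have e : (w.map fun g => genMat 248 (allG.getD g [])) = w.map lm :=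
    List.map_congr_left fun g hg => by rw [allG_low (hw g hg)]; rfl
  rw [e, ← rho_elt hw] at h
  refine right_cancel (left_cancel ?_)
  simp only [psi, Matrix.mul_assoc] at h ⊢
  exact h

theorem psi_y1 : psi (elt (conjW yWord1)) = decM (yLits.getD 0 0) := by
  rw [psi_word (k := 8) (by norm_num) _ (by decide) (List.mem_append_right _ (by simp))]
  rfl

theorem psi_y2 : psi (elt (conjW yWord2)) = decM (yLits.getD 1 0) := by
  rw [psi_word (k := 9) (by norm_num) _ (by decide) (List.mem_append_right _ (by simp))]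
  rfl

end CfsgLib.ThInvol
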