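import Mathlib.Data.Nat.Bitwise
import Mathlib.Data.ZMod.Basic
import Mathlib.Data.Matrix.Mul
import Mathlib.LinearAlgebra.Matrix.Trace
import Mathlib.Algebra.BigOperators.Fin
import Mathlib.Algebra.Ring.GeomSum
import Mathlib.Tactic.NormNum
import Mathlib.Tactic.Ring

/-!
# Matrices of degree 52 modulo three held in single numbers

Slot `52 i + j` of 16 bits holds the entry `(i, j)`. A product is a sum of 52 outer products.
-/

set_option autoImplicit false
set_option maxRecDepth 10000

namespace CfsgLib.ThInvol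

open Finset

/-- The width of a slot. -/
abbrev slot : ℕ := 65536

/-- The number with the given slots. -/
def encF : ℕ → (ℕ → ℕ) → ℕ
  | 0, _ => 0
  | N + 1, f => f 0 + slot * encF N fun t => f (t + 1)

theorem encF_sum : ∀ (N : ℕ) (f : ℕ → ℕ), encF N f = ∑ t ∈ range N, f t * slot ^ t
  | 0, _ => by simp [encF]
  | N + 1, f => by
    rw [encF, encF_sum N, Finset.sum_range_succ', Finset.mul_sum, add_comm, pow_zero, mul_one]
    congr 1
    exact Finset.sum_congr rfl fun t _ => by rw [pow_succ]; ring

theorem encF_congr {N : ℕ} {f g : ℕ → ℕ} (h : ∀ t, t < N → f t = g t) : encF N f = encF N g := by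
  rw [encF_sum, encF_sum]
  exact Finset.sum_congr rfl fun t ht => by rw [h t (Finset.mem_range.1 ht)]

theorem encF_and : ∀ (N : ℕ) (f g : ℕ → ℕ), (∀ t, f t < slot) → (∀ t, g t < slot) →
    encF N f &&& encF N g = encF N fun t => f t &&& g t
  | 0, _, _, _, _ => by simp [encF]
  | N + 1, f, g, hf, hg => by
    simp only [encF, ← encF_and N _ _ (fun t => hf (t + 1)) (fun t => hg (t + 1))]
    set F := encF N fun t => f (t + 1)
    set G := encF N fun t => g (t + 1)
    rw [← Nat.mod_add_div ((f 0 + slot * F) &&& (g 0 + slot * G)) slot]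
    have h0 := hf 0
    have h1 := hg 0
    congr 1
    · simp only [show slot = 2 ^ 16 from rfl] at h0 h1 ⊢
      rw [Nat.and_mod_two_pow, Nat.add_mul_mod_self_left, Nat.add_mul_mod_self_left,
        Nat.mod_eq_of_lt h0, Nat.mod_eq_of_lt h1]
    · simp only [show slot = 2 ^ 16 from rfl] at h0 h1 ⊢
      rw [← Nat.shiftRight_eq_div_pow, Nat.shiftRight_and_distrib, Nat.shiftRight_eq_div_pow,
        Nat.shiftRight_eq_div_pow, Nat.add_mul_div_left _ _ (Nat.two_pow_pos _),
        Nat.add_mul_div_left _ _ (Nat.two_pow_pos _), Nat.div_eq_of_lt h0, Nat.div_eq_of_lt h1,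
        zero_add, zero_add]

theorem encF_pad (N : ℕ) (f : ℕ → ℕ) (h : f N = 0) : encF (N + 1) f = encF N f := by
  rw [encF_sum, encF_sum, Finset.sum_range_succ, h, zero_mul, add_zero]

theorem encF_div (N : ℕ) : ∀ (k : ℕ) (f : ℕ → ℕ), (∀ t, f t < slot) → (∀ t, N ≤ t → f t = 0) →
    encF N f / slot ^ k = encF N fun t => f (t + k)
  | 0, f, _, _ => by simp
  | k + 1, f, hf, hz => by
    rw [pow_succ', ← Nat.div_div_eq_div_mul]
    have : encF N f / slot = encF N fun t => f (t + 1) := by
      rw [← encF_pad N f (hz N le_rfl)]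
      conv_lhs => rw [encF]
      rw [Nat.add_mul_div_left _ _ (by norm_num), Nat.div_eq_of_lt (hf 0), zero_add]
    rw [this, encF_div N k _ (fun t => hf (t + 1)) fun t ht => hz (t + 1) (by omega)]
    exact encF_congr fun t _ => by rw [add_assoc]

theorem encF_inj : ∀ (N : ℕ) (f g : ℕ → ℕ), (∀ t, f t < slot) → (∀ t, g t < slot) →
    encF N f = encF N g → ∀ t, t < N → f t = g t
  | 0, _, _, _, _, _, t, ht => absurd ht (Nat.not_lt_zero t)
  | N + 1, f, g, hf, hg, h, t, ht => by
    simp only [encF] at h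
    have h0 := hf 0
    have h1 := hg 0
    cases t with
    | zero => simp only [slot] at h0 h1 h; omega
    | succ t =>
      exact encF_inj N _ _ (fun u => hf (u + 1)) (fun u => hg (u + 1))
        (by simp only [slot] at h0 h1 h ⊢; omega) t (by omega)

theorem encF_quot : ∀ (N : ℕ) (h : ℕ → ℕ), (∀ t, h t < slot) →
    (encF N h / 512) &&& (encF N fun _ => 127) = encF N fun t => h t / 512
  | 0, _, _ => by simp [encF]
  | N + 1, h, hh => by
    simp only [encF, ← encF_quot N _ fun t => hh (t + 1)]
    set T := encF N fun t => h (t + 1)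
    set M := encF N fun _ => 127
    have h0 := hh 0
    have hx : (h 0 + slot * T) / 512 = h 0 / 512 + 128 * T := by
      simp only [slot] at h0 ⊢; omega
    rw [hx, ← Nat.mod_add_div ((h 0 / 512 + 128 * T) &&& (127 + slot * M)) slot]
    congr 1
    · rw [show slot = 2 ^ 16 from rfl, Nat.and_mod_two_pow,
        show (127 + 2 ^ 16 * M) % 2 ^ 16 = 2 ^ 7 - 1 by omega, Nat.and_two_pow_sub_one_eq_mod]
      simp only [slot] at h0
      omega
    · rw [show slot = 2 ^ 16 from rfl, ← Nat.shiftRight_eq_div_pow, Nat.shiftRight_and_distrib,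
        Nat.shiftRight_eq_div_pow, Nat.shiftRight_eq_div_pow]
      congr 2
      · simp only [slot] at h0; omega
      · omega

theorem encF_mod (N : ℕ) : ∀ f : ℕ → ℕ,
    encF N f % (slot - 1) = (∑ t ∈ range N, f t) % (slot - 1) := by
  induction N with
  | zero => intro f; simp [encF]
  | succ N ih =>
    intro f
    have h := ih fun t => f (t + 1)
    rw [encF, Finset.sum_range_succ']
    simp only [slot] at h ⊢
    omega

theorem geom_closed (B N : ℕ) (hB : 2 ≤ B) : (B ^ N - 1) / (B - 1) = ∑ t ∈ range N, B ^ t :=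
  (Nat.geomSum_eq hB N).symm

theorem sum_pairs {M : Type*} [AddCommMonoid M] (m n : ℕ) (g : ℕ → M) :
    ∑ t ∈ range (m * n), g t = ∑ i ∈ range m, ∑ j ∈ range n, g (n * i + j) := by
  induction m with
  | zero => simp
  | succ m ih => rw [Nat.succ_mul, Finset.sum_range_add, ih, Finset.sum_range_succ, Nat.mul_comm m n]

theorem two_le_pow {n : ℕ} (hn : n ≠ 0) : 2 ≤ slot ^ n :=
  le_trans (by norm_num [slot]) (Nat.le_self_pow hn slot)

/-- The number of slots. -/
abbrev cells : ℕ := 2704

/-- All slots full in the first column. -/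
def colMask : ℕ := (slot - 1) * (((slot ^ 52) ^ 52 - 1) / (slot ^ 52 - 1))

/-- All slots full in the first row. -/
def rowMask : ℕ := slot ^ 52 - 1

/-- All slots full on the diagonal. -/
def diagMask : ℕ := (slot - 1) * (((slot ^ 53) ^ 52 - 1) / (slot ^ 53 - 1))

/-- Seven bits in every slot. -/
def lowMask : ℕ := 127 * ((slot ^ cells - 1) / (slot - 1))

/-- Reduction of every slot modulo three. -/
def red (X : ℕ) : ℕ := X - 3 * (((X * 171) >>> 9) &&& lowMask)

/-- The partial sums of the outer products. -/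
def mmAux (X Y : ℕ) : ℕ → ℕ
  | 0 => 0
  | k + 1 => ((X >>> (16 * k)) &&& colMask) * ((Y >>> (832 * k)) &&& rowMask) + mmAux X Y k

/-- The product. -/
def mm (X Y : ℕ) : ℕ := red (mmAux X Y 52)

/-- The trace. -/
def tr (X : ℕ) : ℕ := (X &&& diagMask) % 65535

theorem colMask_eq : colMask = encF cells fun t => if t % 52 = 0 then slot - 1 else 0 := by
  rw [encF_sum, show cells = 52 * 52 from rfl, sum_pairs]
  rw [colMask, geom_closed (slot ^ 52) 52 (two_le_pow (by norm_num)),
    Finset.mul_sum]
  refine Finset.sum_congr rfl fun i _ => ?_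
  rw [Finset.sum_eq_single 0]
  · rw [if_pos (by simp), add_zero, ← pow_mul]
  · intro j hj h0
    rw [if_neg (by simp only [Finset.mem_range] at hj; omega), zero_mul]
  · simp

theorem diagMask_eq : diagMask = encF cells fun t => if t % 53 = 0 then slot - 1 else 0 := by
  rw [encF_sum, show cells = 52 * 52 from rfl, sum_pairs]
  rw [diagMask, geom_closed (slot ^ 53) 52 (two_le_pow (by norm_num)),
    Finset.mul_sum]
  refine Finset.sum_congr rfl fun i hi => ?_
  simp only [Finset.mem_range] at hi
  rw [Finset.sum_eq_single i]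
  · rw [if_pos (by omega), ← pow_mul]; congr 2; ring
  · intro j hj h0
    rw [if_neg (by simp only [Finset.mem_range] at hj; omega), zero_mul]
  · simp; omega

theorem lowMask_eq : lowMask = encF cells fun _ => 127 := by
  rw [lowMask, geom_closed slot cells (by norm_num [slot]), encF_sum, Finset.mul_sum]

theorem rowMask_eq : rowMask = encF cells fun t => if t < 52 then slot - 1 else 0 := by
  rw [encF_sum, show cells = 52 + 2652 from rfl, Finset.sum_range_add,
    Finset.sum_eq_zero (s := Finset.range 2652) (fun t _ => by rw [if_neg (by omega), zero_mul]),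
    add_zero]
  have h : ∀ n : ℕ, ∑ t ∈ range n, (slot - 1) * slot ^ t = slot ^ n - 1 := by
    intro n
    induction n with
    | zero => simp
    | succ n ih =>
      rw [Finset.sum_range_succ, ih, pow_succ]
      have := Nat.one_le_pow n slot (by norm_num)
      simp only [slot] at this ⊢
      omega
  rw [rowMask, ← h 52]
  exact Finset.sum_congr rfl fun t ht => by rw [if_pos (Finset.mem_range.1 ht)]

/-- The entries of a number with small slots. -/
structure Slots (X : ℕ) (f : ℕ → ℕ) : Prop where
  small : ∀ t, f t < 3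
  zero : ∀ t, cells ≤ t → f t = 0
  eq : X = encF cells f

theorem Slots.lt {X : ℕ} {f : ℕ → ℕ} (h : Slots X f) (t : ℕ) : f t < slot :=
  (h.small t).trans (by norm_num [slot])

theorem and_full {x : ℕ} (hx : x < slot) : x &&& (slot - 1) = x := by
  rw [show slot - 1 = 2 ^ 16 - 1 from rfl, Nat.and_two_pow_sub_one_eq_mod]
  exact Nat.mod_eq_of_lt hx

theorem col_spec {X : ℕ} {f : ℕ → ℕ} (h : Slots X f) (k : ℕ) :
    (X >>> (16 * k)) &&& colMask = ∑ i ∈ range 52, f (52 * i + k) * slot ^ (52 * i) := by
  rw [Nat.shiftRight_eq_div_pow, pow_mul, show (2 : ℕ) ^ 16 = slot from rfl, h.eq,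
    encF_div _ _ _ h.lt h.zero, colMask_eq,
    encF_and cells _ _ (fun t => h.lt (t + k)) (fun t => by split_ifs <;> simp),
    encF_sum, show cells = 52 * 52 from rfl, sum_pairs]
  refine Finset.sum_congr rfl fun i _ => ?_
  rw [Finset.sum_eq_single 0]
  · rw [if_pos (by simp), and_full (h.lt _), add_zero]
  · intro j hj h0
    rw [if_neg (by simp only [Finset.mem_range] at hj; omega), Nat.and_zero, zero_mul]
  · simp

theorem row_spec {X : ℕ} {f : ℕ → ℕ} (h : Slots X f) (k : ℕ) :
    (X >>> (832 * k)) &&& rowMask = ∑ j ∈ range 52, f (52 * k + j) * slot ^ j := by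
  rw [show 832 * k = 16 * (52 * k) by omega, Nat.shiftRight_eq_div_pow, pow_mul,
    show (2 : ℕ) ^ 16 = slot from rfl, h.eq,
    encF_div _ _ _ h.lt h.zero, rowMask_eq,
    encF_and cells _ _ (fun t => h.lt (t + 52 * k)) (fun t => by split_ifs <;> simp),
    encF_sum, show cells = 52 + 2652 from rfl, Finset.sum_range_add,
    Finset.sum_eq_zero (s := Finset.range 2652)
      (fun t _ => by rw [if_neg (by omega), Nat.and_zero, zero_mul]), add_zero]
  refine Finset.sum_congr rfl fun j hj => ?_
  rw [if_pos (Finset.mem_range.1 hj), and_full (h.lt _), add_comm j]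

/-- The entry of the product before reduction. -/
def rawEntry (f g : ℕ → ℕ) (m t : ℕ) : ℕ :=
  ∑ k ∈ range m, f (52 * (t / 52) + k) * g (52 * k + t % 52)

theorem mmAux_spec {X Y : ℕ} {f g : ℕ → ℕ} (hf : Slots X f) (hg : Slots Y g) :
    ∀ m, mmAux X Y m = encF cells (rawEntry f g m)
  | 0 => by simp [mmAux, rawEntry, encF_sum]
  | m + 1 => by
    rw [mmAux, mmAux_spec hf hg m, col_spec hf, row_spec hg]
    simp only [encF_sum]
    rw [show cells = 52 * 52 from rfl, sum_pairs, sum_pairs, Finset.sum_mul_sum, ← Finset.sum_add_distrib]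
    refine Finset.sum_congr rfl fun i _ => ?_
    rw [← Finset.sum_add_distrib]
    refine Finset.sum_congr rfl fun j hj => ?_
    simp only [Finset.mem_range] at hj
    simp only [rawEntry, Finset.sum_range_succ, show (52 * i + j) / 52 = i by omega,
      show (52 * i + j) % 52 = j by omega, pow_add]
    ring

theorem red_enc {h : ℕ → ℕ} (hh : ∀ t, h t < 256) :
    red (encF cells h) = encF cells fun t => h t % 3 := by
  have h1 : encF cells h * 171 = encF cells fun t => h t * 171 := by
    simp only [encF_sum, Finset.sum_mul]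
    exact Finset.sum_congr rfl fun t _ => by ring
  have h2 : encF cells h = 3 * encF cells (fun t => h t * 171 / 512) + encF cells fun t => h t % 3 := by
    simp only [encF_sum, Finset.mul_sum, ← Finset.sum_add_distrib]
    refine Finset.sum_congr rfl fun t _ => ?_
    have := hh t
    rw [← mul_assoc, ← add_mul]
    refine congrArg (· * slot ^ t) ?_
    omega
  rw [red, h1, Nat.shiftRight_eq_div_pow, show (2 : ℕ) ^ 9 = 512 from rfl, lowMask_eq,
    encF_quot cells _ fun t => by have := hh t; simp only [slot]; omega]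
  omega

theorem mm_slots {X Y : ℕ} {f g : ℕ → ℕ} (hf : Slots X f) (hg : Slots Y g) :
    Slots (mm X Y) fun t => if t < cells then rawEntry f g 52 t % 3 else 0 := by
  refine ⟨fun t => by split_ifs <;> omega, fun t ht => if_neg (by omega), ?_⟩
  have hb : ∀ t, rawEntry f g 52 t < 256 := fun t => by
    refine lt_of_le_of_lt (Finset.sum_le_card_nsmul _ _ 4 fun k _ => ?_) (by simp)
    exact Nat.mul_le_mul (Nat.le_of_lt_succ (hf.small _)) (Nat.le_of_lt_succ (hg.small _))
  rw [mm, mmAux_spec hf hg, red_enc hb]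
  exact encF_congr fun t ht => by rw [if_pos ht]

/-- A number stands for a matrix. -/
def Rep (X : ℕ) (M : Matrix (Fin 52) (Fin 52) (ZMod 3)) : Prop :=
  ∃ f, Slots X f ∧ ∀ i j, M i j = ((f (52 * i.val + j.val) : ℕ) : ZMod 3)

theorem Rep.eq {X : ℕ} {M N : Matrix (Fin 52) (Fin 52) (ZMod 3)} (h : Rep X M) (h' : Rep X N) :
    M = N := by
  obtain ⟨f, hf, hM⟩ := h
  obtain ⟨g, hg, hN⟩ := h'
  ext i j
  rw [hM, hN, encF_inj cells f g hf.lt hg.lt (hf.eq.symm.trans hg.eq) _ (by simp only [cells]; omega)]

theorem Rep.mul {X Y : ℕ} {M N : Matrix (Fin 52) (Fin 52) (ZMod 3)} (h : Rep X M) (h' : Rep Y N) :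
    Rep (mm X Y) (M * N) := by
  obtain ⟨f, hf, hM⟩ := h
  obtain ⟨g, hg, hN⟩ := h'
  refine ⟨_, mm_slots hf hg, fun i j => ?_⟩
  have hi := i.isLt
  have hj := j.isLt
  rw [if_pos (by simp only [cells]; omega), ZMod.natCast_mod, rawEntry, Nat.cast_sum,
    show (52 * i.val + j.val) / 52 = i.val by omega, show (52 * i.val + j.val) % 52 = j.val by omega,
    Finset.sum_range, Matrix.mul_apply]
  exact Finset.sum_congr rfl fun k _ => by rw [hM, hN, Nat.cast_mul]

theorem Rep.trace {X : ℕ} {M : Matrix (Fin 52) (Fin 52) (ZMod 3)} (h : Rep X M) :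
    ((tr X : ℕ) : ZMod 3) = M.trace := by
  obtain ⟨f, hf, hM⟩ := h
  rw [tr, hf.eq, diagMask_eq, encF_and cells _ _ hf.lt (fun t => by split_ifs <;> simp),
    show (65535 : ℕ) = slot - 1 from rfl, encF_mod,
    show cells = 52 * 52 from rfl, sum_pairs]
  have e : ∀ i, i ∈ range 52 → (∑ j ∈ range 52,
      (f (52 * i + j) &&& if (52 * i + j) % 53 = 0 then slot - 1 else 0)) = f (52 * i + i) := by
    intro i hi
    simp only [Finset.mem_range] at hi
    rw [Finset.sum_eq_single i]
    · rw [if_pos (by omega), and_full (hf.lt _)]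
    · intro j hj h0
      rw [if_neg (by simp only [Finset.mem_range] at hj; omega), Nat.and_zero]
    · simp; omega
  rw [Finset.sum_congr rfl e]
  have hs : (∑ i ∈ range 52, f (52 * i + i)) < slot - 1 := by
    refine lt_of_le_of_lt (Finset.sum_le_card_nsmul _ _ 2 fun k _ => ?_) (by simp)
    exact Nat.le_of_lt_succ (hf.small _)
  rw [Nat.mod_eq_of_lt hs, Nat.cast_sum, Finset.sum_range, Matrix.trace]
  exact Finset.sum_congr rfl fun i _ => by rw [Matrix.diag_apply, hM]

/-- The matrix of a number. -/
def decM (X : ℕ) : Matrix (Fin 52) (Fin 52) (ZMod 3) :=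
  Matrix.of fun i j => (((X >>> (16 * (52 * i.val + j.val))) % slot : ℕ) : ZMod 3)

/-- All slots are below three and nothing lies above them. -/
def okM (X : ℕ) : Bool :=
  Nat.beq (X >>> (16 * cells)) 0 && (List.range cells).all fun t => Nat.blt ((X >>> (16 * t)) % slot) 3

theorem encF_digits : ∀ (N X : ℕ), X < slot ^ N → encF N (fun t => X / slot ^ t % slot) = X
  | 0, X, h => by simp at h; simp [encF, h]
  | N + 1, X, h => by
    have h' : X / slot < slot ^ N := Nat.div_lt_of_lt_mul (by rwa [← pow_succ'])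
    rw [encF, pow_zero, Nat.div_one]
    conv_rhs => rw [← Nat.mod_add_div X slot, ← encF_digits N _ h']
    congr 2
    exact encF_congr fun t _ => by rw [pow_succ', ← Nat.div_div_eq_div_mul]

theorem rep_decM {X : ℕ} (h : okM X = true) : Rep X (decM X) := by
  simp only [okM, Bool.and_eq_true, List.all_eq_true, Nat.blt_eq, Nat.beq_eq] at h
  have hb : X < slot ^ cells := by
    have h1 := h.1
    rw [Nat.shiftRight_eq_div_pow, pow_mul, show (2 : ℕ) ^ 16 = slot from rfl] at h1
    exact Nat.lt_of_div_eq_zero (pow_pos (by norm_num) _) h1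
  have hd : ∀ t, X >>> (16 * t) % slot = X / slot ^ t % slot := fun t => by
    rw [Nat.shiftRight_eq_div_pow, pow_mul, show (2 : ℕ) ^ 16 = slot from rfl]
  refine ⟨fun t => X / slot ^ t % slot, ⟨fun t => ?_, fun t ht => ?_, (encF_digits cells X hb).symm⟩,
    fun i j => by simp only [decM, Matrix.of_apply]; rw [hd]⟩
  · by_cases ht : t < cells
    · rw [← hd]; exact h.2 t (List.mem_range.2 ht)
    · rw [Nat.div_eq_of_lt (lt_of_lt_of_le hb (Nat.pow_le_pow_right (by norm_num) (by omega)))]
      norm_num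
  · rw [Nat.div_eq_of_lt (lt_of_lt_of_le hb (Nat.pow_le_pow_right (by norm_num) ht))]
    norm_num

end CfsgLib.ThInvol
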