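import Cfsg.Agent.Lib.ThRep.Rep
import Cfsg.Agent.Lib.ThOut.Words
import Cfsg.Agent.Lib.ThInvol.Pack
import Cfsg.Agent.Lib.ThInvol.Data

/-!
# The summand of degree 52 for the subgroup on a, b, c, d, e, s, t
-/

set_option autoImplicit false
set_option maxRecDepth 100000
set_option linter.constructorNameAsVariable false

namespace CfsgLib.ThInvol

open Cfsg.Spor ThRep ThRep.ModThree Matrix

attribute [local irreducible] matGens evalP matWords

/-- The generator of a letter. -/
def letterOf (g : ℕ) : Th.Gen × Bool :=
  (([.a, .b, .c, .d, .e, .s, .t, .u] : List Th.Gen).getD (g / 2) .a, g % 2 == 0)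

theorem sylLetter_letterOf : ∀ g, g < 16 → sylLetter (letterOf g) = g := by decide

/-- The element of a word in the letters. -/
def elt (w : List ℕ) : Cfsg.Spor.Th := PresentedGroup.mk thRels (FreeGroup.mk (w.map letterOf))

/-- The matrix of an element. -/
noncomputable def rhoM (x : Cfsg.Spor.Th) : Matrix (Fin 248) (Fin 248) (ZMod 3) :=
  (rho x : Matrix (Fin 248) (Fin 248) (ZMod 3))

theorem rhoM_mul (x y : Cfsg.Spor.Th) : rhoM (x * y) = rhoM x * rhoM y := by
  simp only [rhoM, map_mul, Units.val_mul]

theorem rhoM_one : rhoM 1 = 1 := by simp only [rhoM, map_one, Units.val_one]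

theorem rho_elt {w : List ℕ} (hw : ∀ g ∈ w, g < 16) : rhoM (elt w) = (w.map lm).prod := by
  have h : rho (elt w) = FreeGroup.lift lu (FreeGroup.mk (w.map letterOf)) := rfl
  rw [rhoM, h, lift_val, List.map_map]
  refine congrArg List.prod ?_
  rw [← List.map_map]
  refine congrArg (List.map lm) ?_
  rw [List.map_map]
  calc w.map (sylLetter ∘ letterOf) = w.map id :=
        List.map_congr_left fun g hg => sylLetter_letterOf g (hw g hg)
    _ = w := List.map_id w

theorem elt_append (v w : List ℕ) : elt (v ++ w) = elt v * elt w := by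
  rw [elt, elt, elt, List.map_append, ← FreeGroup.mul_mk, map_mul]

theorem elt_nil : elt [] = 1 := by rw [elt, List.map_nil, ← FreeGroup.one_eq_mk, map_one]

theorem elt_of (x : Th.Gen) : elt [genLetter x] = PresentedGroup.of x := by
  cases x <;> rfl

/-- A dense row, as a sparse one. -/
def dense : ℕ → (ℕ → ℕ) → ℕ → List (ℕ × ℕ)
  | 0, _, _ => []
  | m + 1, f, o => (0, f o) :: dense m f (o + 1)

theorem coef_dense (f : ℕ → ℕ) : ∀ m o k : ℕ,
    coef (dense m f o) k = if k < m then ((f (o + k) : ℕ) : ZMod 3) else 0
  | 0, o, k => by simp [dense, coef]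
  | m + 1, o, k => by
    simp only [dense, coef, Nat.not_lt_zero, if_false]
    rcases Nat.eq_zero_or_pos k with rfl | hk
    · simp
    · rw [if_neg (by omega), coef_dense f m]
      by_cases h : k < m + 1
      · rw [if_pos h, if_pos (by omega), show o + 1 + (k - 0 - 1) = o + k by omega]
      · rw [if_neg h, if_neg (by omega)]

theorem getD_replicate_nil {α : Type*} (m i : ℕ) :
    (List.replicate m ([] : List α)).getD i [] = [] := by
  rw [List.getD_eq_getElem?_getD, List.getElem?_replicate]
  split_ifs <;> rfl

/-- An entry stored with two bits. -/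
def two (R k : ℕ) : ℕ := (R >>> (2 * k)) % 4

/-- The projection, as sparse rows. -/
def piG : List (List (ℕ × ℕ)) :=
  (List.range 52).map (fun i => dense 248 (two (piRows.getD i 0)) 0) ++ List.replicate 196 []

/-- The section, as sparse rows. -/
def ioG : List (List (ℕ × ℕ)) :=
  (List.range 248).map fun i => dense 52 (two (ioRows.getD i 0)) 0

/-- A square of degree 52 as sparse rows of degree 248. -/
def sqG (X : ℕ) : List (List (ℕ × ℕ)) :=
  (List.range 52).map (fun i => dense 52 (fun t => (X >>> (16 * t)) % slot) (52 * i)) ++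
    List.replicate 196 []

/-- The projection. -/
def piMat : Matrix (Fin 52) (Fin 248) (ZMod 3) :=
  Matrix.of fun i k => ((two (piRows.getD i.val 0) k.val : ℕ) : ZMod 3)

/-- The section. -/
def ioMat : Matrix (Fin 248) (Fin 52) (ZMod 3) :=
  Matrix.of fun i k => ((two (ioRows.getD i.val 0) k.val : ℕ) : ZMod 3)

/-- The inclusion of the first 52 coordinates. -/
def incl : Matrix (Fin 248) (Fin 52) (ZMod 3) := Matrix.of fun i j => if i.val = j.val then 1 else 0

theorem incl_mul {m : Type*} (M : Matrix (Fin 52) m (ZMod 3)) (i : Fin 248) (k : m) :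
    (incl * M) i k = if h : i.val < 52 then M ⟨i.val, h⟩ k else 0 := by
  rw [Matrix.mul_apply]
  by_cases h : i.val < 52
  · rw [dif_pos h, Finset.sum_eq_single (⟨i.val, h⟩ : Fin 52)]
    · simp [incl]
    · intro j _ hj
      rw [incl, Matrix.of_apply, if_neg (fun e => hj (Fin.ext e.symm)), zero_mul]
    · simp
  · rw [dif_neg h, Finset.sum_eq_zero]
    intro j _
    have := j.isLt
    rw [incl, Matrix.of_apply, if_neg (by omega), zero_mul]

theorem mul_incl {m : Type*} (M : Matrix m (Fin 52) (ZMod 3)) (i : m) (k : Fin 248) :
    (M * inclᵀ) i k = if h : k.val < 52 then M i ⟨k.val, h⟩ else 0 := by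
  have := incl_mul Mᵀ k i
  rw [← Matrix.transpose_transpose incl, ← Matrix.transpose_mul, Matrix.transpose_apply] at this
  exact this

theorem incl_self : inclᵀ * incl = 1 := by
  ext i j
  rw [Matrix.mul_apply, Finset.sum_eq_single (⟨i.val, by have := i.isLt; omega⟩ : Fin 248)]
  · simp [incl, Matrix.one_apply, Fin.ext_iff]
  · intro k _ hk
    rw [Matrix.transpose_apply, incl, Matrix.of_apply, if_neg (fun e => hk (Fin.ext e)), zero_mul]
  · simp

theorem genMat_piG : genMat 248 piG = incl * piMat := by
  ext i k
  rw [genMat, Matrix.of_apply, incl_mul]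
  have hk := k.isLt
  by_cases h : i.val < 52
  · rw [dif_pos h, piG, List.getD_append _ _ _ _ (by simpa using h),
      List.getD_eq_getElem _ _ (by simpa using h), List.getElem_map, List.getElem_range, coef_dense,
      if_pos hk, piMat, Matrix.of_apply, zero_add]
  · rw [dif_neg h, piG, List.getD_append_right _ _ _ _ (by simp; omega), getD_replicate_nil]
    rfl

theorem genMat_ioG : genMat 248 ioG = ioMat * inclᵀ := by
  ext i k
  rw [genMat, Matrix.of_apply, mul_incl, ioG, List.getD_eq_getElem _ _ (by simp),
    List.getElem_map, List.getElem_range, coef_dense]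
  by_cases h : k.val < 52
  · rw [if_pos h, dif_pos h, ioMat, Matrix.of_apply, zero_add]
  · rw [if_neg h, dif_neg h]

theorem genMat_sqG (X : ℕ) : genMat 248 (sqG X) = incl * decM X * inclᵀ := by
  ext i k
  rw [genMat, Matrix.of_apply, mul_incl]
  by_cases h : i.val < 52
  · rw [sqG, List.getD_append _ _ _ _ (by simpa using h),
      List.getD_eq_getElem _ _ (by simpa using h), List.getElem_map, List.getElem_range, coef_dense]
    by_cases hk : k.val < 52
    · rw [if_pos hk, dif_pos hk, incl_mul, dif_pos h, decM, Matrix.of_apply]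
    · rw [if_neg hk, dif_neg hk]
  · rw [sqG, List.getD_append_right _ _ _ _ (by simp; omega), getD_replicate_nil]
    simp only [incl_mul, dif_neg h, coef]
    split_ifs <;> rfl

/-- The squares in use: the seven generators, the identity, and the two involutions. -/
def sqLits : List ℕ := psiLits ++ [oneLit] ++ yLits

/-- The sparse matrices in use. -/
def allG : List (List (List (ℕ × ℕ))) := matGens ++ [piG, ioG] ++ sqLits.map sqG

theorem matGens_length : matGens.length = 16 := by
  unfold matGens
  rfl

theorem allG_low {g : ℕ} (hg : g < 16) : allG.getD g [] = matGens.getD g [] := by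
  rw [allG, List.append_assoc, List.getD_append _ _ _ _ (by rw [matGens_length]; exact hg)]

theorem allG_pi : allG.getD 16 [] = piG := by
  rw [allG, List.append_assoc, List.getD_append_right _ _ _ _ matGens_length.le, matGens_length]
  rfl

theorem allG_io : allG.getD 17 [] = ioG := by
  rw [allG, List.append_assoc, List.getD_append_right _ _ _ _ (by rw [matGens_length]; norm_num),
    matGens_length]
  rfl

theorem allG_sq {k : ℕ} (hk : k < sqLits.length) :
    allG.getD (18 + k) [] = sqG (sqLits.getD k 0) := by
  rw [allG, List.getD_append_right _ _ _ _ (by simp [matGens_length]),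
    show 18 + k - (matGens ++ [piG, ioG]).length = k by simp [matGens_length],
    List.getD_eq_getElem _ _ (by simpa using hk), List.getElem_map, List.getD_eq_getElem _ _ hk]

/-- The inverse word. -/
def invW (w : List ℕ) : List ℕ := (w.reverse).map (· ^^^ 1)

/-- The word of the conjugate of a by a word. -/
def conjW (w : List ℕ) : List ℕ := invW w ++ [0] ++ w

/-- The identities to check, as pairs of words. -/
def pairs : List (List ℕ × List ℕ) :=
  ((List.range 7).map fun i => ([16, 2 * i], [18 + i, 16])) ++
    ((List.range 7).map fun i => ([2 * i, 17], [17, 18 + i])) ++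
      [([16, 17], [25]), (16 :: (conjW yWord1 ++ [17]), [26]), (16 :: (conjW yWord2 ++ [17]), [27])]

/-- The packed value of a word, by a recursor. -/
noncomputable def evG (G : List (List (List (ℕ × ℕ)))) (w : List ℕ) : List ℕ :=
  List.rec (motive := fun _ => List ℕ) (idP 248) (fun g _ ih => ThOut.mulF (G.getD g []) ih) w

theorem evG_eq (G : List (List (List (ℕ × ℕ)))) : ∀ w : List ℕ, evG G w = evalP 248 G w
  | [] => by unfold evalP; rfl
  | g :: w => by
    show ThOut.mulF (G.getD g []) (evG G w) = _
    rw [ThOut.mulF_eq, evG_eq G w]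
    unfold evalP
    rfl

/-- One pair of words has equal packed values. -/
noncomputable def pairOk (G : List (List (List (ℕ × ℕ)))) (p : List ℕ × List ℕ) : Bool :=
  beqL (evG G p.1) (evG G p.2)

end CfsgLib.ThInvol
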