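import Cfsg.Agent.Lib.ThInvol.HexCount
import Cfsg.Agent.Lib.ThOut.Cent

/-!
# The class of a is large, so its centraliser is small

Two conjugates of a lie in different orbits of the subgroup on a, b, c, d, e, s, t, and the traces
against the 819 points bound the two stabilisers.
-/

set_option autoImplicit false
set_option maxRecDepth 10000

namespace CfsgLib.ThInvol

open Cfsg.Spor Matrix

attribute [local irreducible] psiLits oneLit yLits actTab treeTab nbrTab levelTab piMat ioMat psi rhoM mm decM elt ptAt colour1 colour2 rounds1 rounds2 stages1 stages2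

theorem colours1_all {c : ℕ} (hc : c < 7) : colourOk colour1 (yLits.getD 0 0) c = true := by
  rcases (show c = 0 ∨ c = 1 ∨ c = 2 ∨ c = 3 ∨ c = 4 ∨ c = 5 ∨ c = 6 by omega) with
    rfl | rfl | rfl | rfl | rfl | rfl | rfl
  exacts [colour1_ok0, colour1_ok1, colour1_ok2, colour1_ok3, colour1_ok4, colour1_ok5, colour1_ok6]

theorem colours2_all {c : ℕ} (hc : c < 7) : colourOk colour2 (yLits.getD 1 0) c = true := by
  rcases (show c = 0 ∨ c = 1 ∨ c = 2 ∨ c = 3 ∨ c = 4 ∨ c = 5 ∨ c = 6 by omega) with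
    rfl | rfl | rfl | rfl | rfl | rfl | rfl
  exacts [colour2_ok0, colour2_ok1, colour2_ok2, colour2_ok3, colour2_ok4, colour2_ok5, colour2_ok6]

theorem colour_trace {C Y : ℕ} {y : Cfsg.Spor.Th} (hY : okM Y = true) (hy : psi y = decM Y)
    (h : ∀ c, c < 7 → colourOk C Y c = true) (i : Fin npts) :
    colAt C i.val < 3 ∧ ((colAt C i.val : ℕ) : ZMod 3) = (ptM i * psi y).trace := by
  have hi := i.isLt
  have h' := List.all_eq_true.1 (h (i.val / chunk) (by simp only [chunk, npts] at *; omega))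
    (i.val % chunk) (List.mem_range.2 (Nat.mod_lt _ (by norm_num [chunk])))
  rw [Nat.div_add_mod, Nat.beq_eq] at h'
  rw [h']
  refine ⟨Nat.mod_lt _ (by norm_num), ?_⟩
  rw [ZMod.natCast_mod, hy]
  exact ((rep_ptM i).mul (rep_decM hY)).trace

/-- A colouring records the traces against a member. -/
def IsColour (C : ℕ) (y : Cfsg.Spor.Th) : Prop :=
  ∀ i : Fin npts, colAt C i.val < 3 ∧ ((colAt C i.val : ℕ) : ZMod 3) = (ptM i * psi y).trace

theorem colour_conj {C D : ℕ} {y z : Cfsg.Spor.Th} (hC : IsColour C y) (hD : IsColour D z)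
    (m : moves) (h : m.1 * y * m.1⁻¹ = z) (i : Fin npts) :
    colAt D i.val = colAt C (act m⁻¹ i).val := by
  obtain ⟨hm, hj⟩ := mem_moves.1 m.2
  obtain ⟨j, hj⟩ := hj i
  rw [act_inv hj]
  have e : ((colAt D i.val : ℕ) : ZMod 3) = ((colAt C j.val : ℕ) : ZMod 3) := by
    rw [(hD i).2, (hC j).2, ← h, psi_mul_right _ (inv_mem hm), psi_mul hm, ← Matrix.mul_assoc,
      ← Matrix.mul_assoc, hj, Matrix.trace_mul_comm]
    simp only [← Matrix.mul_assoc]
    rw [psi_inv_mul hm, Matrix.one_mul]
  have := congrArg ZMod.val e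
  rwa [ZMod.val_natCast, ZMod.val_natCast, Nat.mod_eq_of_lt (hD i).1, Nat.mod_eq_of_lt (hC j).1] at this

/-- The orbit under the seven generators. -/
def orbK (y : Cfsg.Spor.Th) : Set Cfsg.Spor.Th := {z | ∃ m ∈ grpK, m.1 * y * m.1⁻¹ = z}

variable [Finite Cfsg.Spor.Th]

theorem orbit_lower {C k : ℕ} {y : Cfsg.Spor.Th} (hC : IsColour C y)
    (hk : Nat.card (colStab C) ≤ k) : 634023936 ≤ Nat.card (orbK y) * k := by
  have hex : ∀ σ : imgK, ∃ m, m ∈ grpK ∧ act m = σ.1 := fun σ => Subgroup.mem_map.1 σ.2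
  choose m hm he using hex
  let f : imgK → orbK y := fun σ => ⟨(m σ).1 * y * (m σ).1⁻¹, m σ, hm σ, rfl⟩
  have hf : ∀ a b : imgK, f a = f b → (a.1)⁻¹ * b.1 ∈ colStab C := by
    intro a b hab
    have h : (m a).1 * y * (m a).1⁻¹ = (m b).1 * y * (m b).1⁻¹ := congrArg Subtype.val hab
    have hn : ((m b)⁻¹ * m a).1 * y * ((m b)⁻¹ * m a).1⁻¹ = y := by
      rw [Subgroup.coe_mul, Subgroup.coe_inv]
      calc (m b).1⁻¹ * (m a).1 * y * ((m b).1⁻¹ * (m a).1)⁻¹
          = (m b).1⁻¹ * ((m a).1 * y * (m a).1⁻¹) * (m b).1 := by group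
        _ = y := by rw [h]; group
    refine mem_colStab.2 ⟨mul_mem (inv_mem a.2) b.2, fun i => ?_⟩
    have := colour_conj hC hC _ hn i
    rw [_root_.mul_inv_rev, inv_inv, map_mul, map_inv, he, he] at this
    exact this.symm
  exact card_imgK.trans ((card_le_mul imgK (colStab C) f hf).trans (Nat.mul_le_mul_left _ hk))

theorem orbK_disjoint {C D : ℕ} {y z : Cfsg.Spor.Th} (hC : IsColour C y) (hD : IsColour D z)
    (hne : ((List.range npts).map (colAt C)).sum ≠ ((List.range npts).map (colAt D)).sum) :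
    Disjoint (orbK y) (orbK z) := by
  rw [Set.disjoint_left]
  rintro x ⟨m, -, hm⟩ ⟨n, -, hn⟩
  have h : (n⁻¹ * m).1 * y * (n⁻¹ * m).1⁻¹ = z := by
    rw [Subgroup.coe_mul, Subgroup.coe_inv]
    calc n.1⁻¹ * m.1 * y * (n.1⁻¹ * m.1)⁻¹ = n.1⁻¹ * (m.1 * y * m.1⁻¹) * n.1 := by group
      _ = z := by rw [hm, ← hn]; group
  refine hne ?_
  have e : ∀ E : ℕ, ((List.range npts).map (colAt E)).sum = ∑ i : Fin npts, colAt E i.val := fun E => by
    rw [← Finset.sum_range fun i => colAt E i]
    rfl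
  rw [e, e, ← Equiv.sum_comp (act (n⁻¹ * m)⁻¹) fun i : Fin npts => colAt C i.val]
  exact Finset.sum_congr rfl fun i _ => (colour_conj hC hD _ h i).symm

theorem elt_inv_letter : ∀ g, g < 16 →
    elt [g ^^^ 1] = (elt [g])⁻¹ := by
  intro g hg
  have : ∀ g, g < 16 → letterOf (g ^^^ 1) = ((letterOf g).1, !(letterOf g).2) := by decide
  unfold elt
  rw [← map_inv, List.map_singleton, List.map_singleton, this g hg, FreeGroup.inv_mk]
  rfl

theorem elt_invW : ∀ w : List ℕ, (∀ g ∈ w, g < 16) → elt (invW w) = (elt w)⁻¹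
  | [], _ => by rw [show invW [] = [] from rfl, elt_nil, inv_one]
  | g :: w, h => by
    rw [show invW (g :: w) = invW w ++ [g ^^^ 1] by simp [invW], elt_append,
      elt_invW w (fun x hx => h x (List.mem_cons_of_mem _ hx)), elt_inv_letter g (h g List.mem_cons_self),
      show g :: w = [g] ++ w from rfl, elt_append, _root_.mul_inv_rev]

theorem conjW_mem (w : List ℕ) (hw : ∀ g ∈ w, g < 16) :
    ∃ g : Cfsg.Spor.Th, g * PresentedGroup.of Th.Gen.a * g⁻¹ = elt (conjW w) := by
  refine ⟨(elt w)⁻¹, ?_⟩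
  rw [conjW, elt_append, elt_append, elt_invW w hw, inv_inv, ← elt_of Th.Gen.a]
  rfl

theorem colour1_is : IsColour colour1 (elt (conjW yWord1)) :=
  colour_trace (lit_okM (List.mem_append_right _ (by
    rw [List.getD_eq_getElem _ _ (by unfold yLits; exact (by decide : 0 < 2))]
    exact List.getElem_mem _))) psi_y1 fun _ => colours1_all

theorem colour2_is : IsColour colour2 (elt (conjW yWord2)) :=
  colour_trace (lit_okM (List.mem_append_right _ (by
    rw [List.getD_eq_getElem _ _ (by unfold yLits; exact (by decide : 1 < 2))]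
    exact List.getElem_mem _))) psi_y2 fun _ => colours2_all

theorem stab1_le : Nat.card (colStab colour1) ≤ 2 := by
  have h := stages1_ok
  simp only [Bool.and_eq_true, Nat.beq_eq] at h
  refine le_trans (Subgroup.card_le_of_le (rounds_stab _ _ rounds1_ok)) ?_
  refine le_trans (stages_bound _ _ _ h.1 ?_) h.2.le
  intro s hs
  obtain ⟨k, hk, rfl⟩ := List.getElem_of_mem hs
  rw [← List.getD_eq_getElem _ (0, [], 0, []) hk]
  unfold stages1 at hk
  simp only [List.length_cons, List.length_nil] at hk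
  obtain rfl : k = 0 := by omega
  exact stage1a_ok

theorem stab2_le : Nat.card (colStab colour2) ≤ 4 := by
  have h := stages2_ok
  simp only [Bool.and_eq_true, Nat.beq_eq] at h
  refine le_trans (Subgroup.card_le_of_le (rounds_stab _ _ rounds2_ok)) ?_
  refine le_trans (stages_bound _ _ _ h.1 ?_) h.2.le
  intro s hs
  obtain ⟨k, hk, rfl⟩ := List.getElem_of_mem hs
  rw [← List.getD_eq_getElem _ (0, [], 0, []) hk]
  unfold stages2 at hk
  simp only [List.length_cons, List.length_nil] at hk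
  rcases (show k = 0 ∨ k = 1 by omega) with rfl | rfl
  exacts [stage2a_ok, stage2b_ok]

/-- The class of a has at least 475517952 members. -/
theorem class_lower :
    475517952 ≤ Nat.card {y : Cfsg.Spor.Th | ∃ g, g * PresentedGroup.of Th.Gen.a * g⁻¹ = y} := by
  have h1 := orbit_lower colour1_is stab1_le
  have h2 := orbit_lower colour2_is stab2_le
  have hd := orbK_disjoint colour1_is colour2_is (fun e => by
    have := hist_ne
    rw [Nat.beq_eq.mpr e] at this
    exact Bool.noConfusion this)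
  have hsub : ∀ w : List ℕ, (∀ g ∈ w, g < 16) →
      orbK (elt (conjW w)) ⊆ {y | ∃ g, g * PresentedGroup.of Th.Gen.a * g⁻¹ = y} := by
    rintro w hw z ⟨m, -, rfl⟩
    obtain ⟨g, hg⟩ := conjW_mem w hw
    exact ⟨m.1 * g, by rw [← hg]; group⟩
  simp only [Nat.card_coe_set_eq] at h1 h2 ⊢
  have h3 := Set.ncard_union_eq hd (Set.toFinite _) (Set.toFinite _)
  have h4 := Set.ncard_le_ncard (Set.union_subset (hsub yWord1 (by decide)) (hsub yWord2 (by decide)))
    (Set.toFinite _)
  omega

variable [IsSimpleGroup Cfsg.Spor.Th]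

/-- The centraliser of a has order at most 92897280. -/
theorem card_cent_le (hcard : Nat.card Cfsg.Spor.Th = 90745943887872000) :
    Nat.card (Subgroup.centralizer ({ThOut.el 0} : Set Cfsg.Spor.Th)) ≤ 92897280 := by
  classical
  have hel : ThOut.el 0 = PresentedGroup.of Th.Gen.a := rfl
  set C := Subgroup.centralizer ({ThOut.el 0} : Set Cfsg.Spor.Th) with hC
  let S := {y : Cfsg.Spor.Th | ∃ g, g * PresentedGroup.of Th.Gen.a * g⁻¹ = y}
  have hg : ∀ y : S, ∃ g, g * PresentedGroup.of Th.Gen.a * g⁻¹ = y.1 := fun y => y.2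
  choose g hg using hg
  let F : S × C → Cfsg.Spor.Th := fun p => g p.1 * p.2.1
  have hF : Function.Injective F := by
    rintro ⟨y, c⟩ ⟨z, d⟩ h
    have h' : g y * c.1 = g z * d.1 := h
    have hc : ∀ c : C, c.1 * PresentedGroup.of Th.Gen.a * c.1⁻¹ = PresentedGroup.of Th.Gen.a := fun c => by
      have := Subgroup.mem_centralizer_singleton_iff.1 c.2
      rw [← hel, this]
      group
    have e : y = z := Subtype.ext (by
      calc y.1 = g y * PresentedGroup.of Th.Gen.a * (g y)⁻¹ := (hg y).symm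
        _ = (g y * c.1) * PresentedGroup.of Th.Gen.a * (g y * c.1)⁻¹ := by
          conv_lhs => rw [← hc c]
          group
        _ = (g z * d.1) * PresentedGroup.of Th.Gen.a * (g z * d.1)⁻¹ := by rw [h']
        _ = g z * PresentedGroup.of Th.Gen.a * (g z)⁻¹ := by
          conv_rhs => rw [← hc d]
          group
        _ = z.1 := hg z)
    subst e
    exact Prod.ext rfl (Subtype.ext (mul_left_cancel h'))
  have h1 := Nat.card_le_card_of_injective F hF
  rw [Nat.card_prod, hcard] at h1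
  have h2 : 92897280 ∣ Nat.card C := by
    refine Dvd.dvd.trans ?_ (Subgroup.card_dvd_of_le ThOut.hs_le_cent)
    rw [ThOut.card_hs_eq, show 92897280 = 181440 * 512 by norm_num]
    exact Nat.mul_dvd_mul_left _ (ThOut.card_qs ▸ Subgroup.card_dvd_of_le ThOut.qs_le_ker)
  have h3 : Nat.card C ∣ 90745943887872000 := hcard ▸ Subgroup.card_subgroup_dvd_card C
  have h4 := class_lower
  obtain ⟨n, hn⟩ := h2
  have h5 : 475517952 * Nat.card C ≤ 90745943887872000 :=
    (Nat.mul_le_mul_right _ h4).trans h1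
  rw [hn] at h3 h5 ⊢
  rcases (show n ≤ 1 ∨ n = 2 by omega) with h | rfl
  · omega
  · exact absurd h3 (by norm_num)

end CfsgLib.ThInvol
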