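import Cfsg.Agent.Lib.ThInvol.HexDefs

/-!
# The points, checked
-/

set_option autoImplicit false
set_option maxRecDepth 100000

namespace CfsgLib.ThInvol

theorem lits_ok : ((psiLits ++ [oneLit] ++ yLits).all okM) = true := by decide +kernel

theorem inv_ok : ((List.range 7).all fun g =>
    Nat.beq (mm (gInv g) (gLit g)) oneLit && Nat.beq (mm (gLit g) (gInv g)) oneLit) = true := by
  decide +kernel

theorem tree_ok : treeOk = true := by decide +kernel

theorem levels_ok : (levelsOk [] levelTab &&
    Nat.beq ((levelTab.map fun L => L.2.2.2.2.length + 1).prod) 634023936) = true := by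
  decide +kernel

theorem pts_distinct : distinctOk npts ptAt ptOrd = true := by decide +kernel

theorem root_ok : Nat.beq (ptAt 0) (gLit 0) = true := by decide +kernel

theorem nbr_a_ok : nbrOk 0 = true := by decide +kernel

theorem nbr_b_ok : nbrOk 1 = true := by decide +kernel

theorem nbr_c_ok : nbrOk 2 = true := by decide +kernel

theorem nbr_d_ok : nbrOk 3 = true := by decide +kernel

theorem nbr_e_ok : nbrOk 4 = true := by decide +kernel

theorem nbr_s_ok : nbrOk 5 = true := by decide +kernel

theorem nbr_t_ok : nbrOk 6 = true := by decide +kernel

theorem rounds1_ok : roundsOk colour1 rounds1 = true := by decide +kernel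

theorem rounds2_ok : roundsOk colour2 rounds2 = true := by decide +kernel

theorem stage1a_ok : stageRoundsOk stages1 0 = true := by decide +kernel

theorem stage2a_ok : stageRoundsOk stages2 0 = true := by decide +kernel

theorem stage2b_ok : stageRoundsOk stages2 1 = true := by decide +kernel

theorem stages1_ok : (stagesOk final1Ord (lastCol colour1 rounds1) stages1 &&
    Nat.beq ((stages1.map fun s => s.2.1.length).prod) 2) = true := by
  decide +kernel

theorem stages2_ok : (stagesOk final2Ord (lastCol colour2 rounds2) stages2 &&
    Nat.beq ((stages2.map fun s => s.2.1.length).prod) 4) = true := by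
  decide +kernel

theorem hist_ne : (Nat.beq (((List.range npts).map (colAt colour1)).sum)
    (((List.range npts).map (colAt colour2)).sum)) = false := by
  decide +kernel

end CfsgLib.ThInvol
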