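import Cfsg.Agent.Lib.ThInvol.HexDefs

/-!
# The points, checked
-/

set_option autoImplicit false
set_option maxRecDepth 100000

namespace CfsgLib.ThInvol

theorem colour1_ok0 : colourOk colour1 (yLits.getD 0 0) 0 = true := by decide +kernel

theorem colour1_ok1 : colourOk colour1 (yLits.getD 0 0) 1 = true := by decide +kernel

theorem colour1_ok2 : colourOk colour1 (yLits.getD 0 0) 2 = true := by decide +kernel

theorem colour1_ok3 : colourOk colour1 (yLits.getD 0 0) 3 = true := by decide +kernel

theorem colour1_ok4 : colourOk colour1 (yLits.getD 0 0) 4 = true := by decide +kernel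

theorem colour1_ok5 : colourOk colour1 (yLits.getD 0 0) 5 = true := by decide +kernel

theorem colour1_ok6 : colourOk colour1 (yLits.getD 0 0) 6 = true := by decide +kernel

theorem colour2_ok0 : colourOk colour2 (yLits.getD 1 0) 0 = true := by decide +kernel

theorem colour2_ok1 : colourOk colour2 (yLits.getD 1 0) 1 = true := by decide +kernel

theorem colour2_ok2 : colourOk colour2 (yLits.getD 1 0) 2 = true := by decide +kernel

theorem colour2_ok3 : colourOk colour2 (yLits.getD 1 0) 3 = true := by decide +kernel

theorem colour2_ok4 : colourOk colour2 (yLits.getD 1 0) 4 = true := by decide +kernel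

theorem colour2_ok5 : colourOk colour2 (yLits.getD 1 0) 5 = true := by decide +kernel

theorem colour2_ok6 : colourOk colour2 (yLits.getD 1 0) 6 = true := by decide +kernel

end CfsgLib.ThInvol
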