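import Cfsg.Agent.Lib.ThInvol.HexPts
import Cfsg.Agent.Lib.ThInvol.HexCheckB

/-!
# The order of the image and the stabilisers of the two colourings
-/

set_option autoImplicit false
set_option maxRecDepth 10000

namespace CfsgLib.ThInvol

open Cfsg.Spor Matrix

attribute [local irreducible] psiLits oneLit yLits actTab treeTab nbrTab levelTab piMat ioMat psi rhoM mm decM elt ptAt colour1 colour2 rounds1 rounds2 stages1 stages2

/-- The image of the subgroup on the seven generators. -/
noncomputable def imgK : Subgroup (Equiv.Perm (Fin npts)) := grpK.map act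

theorem genK_mem (g : ℕ) : genK g ∈ grpK := Subgroup.subset_closure ⟨g, rfl⟩

theorem word_mem (w : List ℕ) : (w.map genK).prod ∈ grpK :=
  Subgroup.list_prod_mem _ fun x hx => by
    obtain ⟨g, -, rfl⟩ := List.mem_map.1 hx
    exact genK_mem g

theorem slot10_edges {ws : List (List ℕ)} {P I : ℕ} :
    ∀ (es : List (ℕ × ℕ)) (k : ℕ), edgesOk ws P I k es = true →
    ∀ j, j < es.length → (es.getD j (0, 0)).1 ≤ k + j ∧ (es.getD j (0, 0)).2 < ws.length ∧
      slot10 P (k + j + 1) =
        walk (ws.getD (es.getD j (0, 0)).2 []) (slot10 P (es.getD j (0, 0)).1) ∧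
      slot10 I (slot10 P (k + j + 1)) = k + j + 1
  | [], _, _, j, hj => absurd hj (by simp)
  | (p, c) :: es, k, h, j, hj => by
    simp only [edgesOk, Bool.and_eq_true, Nat.ble_eq, Nat.blt_eq, Nat.beq_eq] at h
    cases j with
    | zero => exact ⟨h.1.1.1.1, h.1.1.1.2, h.1.1.2, h.1.2⟩
    | succ j =>
      have := slot10_edges es (k + 1) h.2 j (by simpa using hj)
      simp only [List.getD_cons_succ]
      rwa [show k + 1 + j = k + (j + 1) by omega] at this

theorem walk_perm (w : List ℕ) (hw : ∀ g ∈ w, g < 7) :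
    ∃ σ ∈ imgK, ∀ i : Fin npts, (σ i).val = walk w i.val :=
  ⟨act ((w.map genK).prod)⁻¹, Subgroup.mem_map_of_mem _ (inv_mem (word_mem w)), act_word w hw⟩

/-- The members fixing some numbered points. -/
noncomputable def fixS (fixed : List ℕ) : Subgroup (Equiv.Perm (Fin npts)) where
  carrier := {σ | σ ∈ imgK ∧ ∀ q : Fin npts, q.val ∈ fixed → σ q = q}
  one_mem' := ⟨one_mem _, fun _ _ => rfl⟩
  mul_mem' {a b} ha hb := ⟨mul_mem ha.1 hb.1, fun q hq => by
    rw [Equiv.Perm.mul_apply, hb.2 q hq, ha.2 q hq]⟩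
  inv_mem' {a} ha := ⟨inv_mem ha.1, fun q hq => by
    conv_lhs => rw [← ha.2 q hq]
    simp⟩

theorem mem_fixS {fixed : List ℕ} {σ : Equiv.Perm (Fin npts)} :
    σ ∈ fixS fixed ↔ σ ∈ imgK ∧ ∀ q : Fin npts, q.val ∈ fixed → σ q = q := Iff.rfl

theorem levels_bound : ∀ (ls : List LevelT) (fixed : List ℕ), levelsOk fixed ls = true →
    (ls.map fun L => L.2.2.2.2.length + 1).prod ≤ Nat.card (fixS fixed)
  | [], fixed, _ => by
    haveI : Nonempty (fixS fixed) := ⟨1⟩
    simp only [List.map_nil, List.prod_nil]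
    exact Nat.card_pos
  | (b, ws, P, I, es) :: ls, fixed, h => by
    simp only [levelsOk, Bool.and_eq_true, Nat.blt_eq, Nat.beq_eq, List.all_eq_true] at h
    obtain ⟨⟨⟨⟨⟨hb, hP⟩, hI⟩, hws⟩, hes⟩, hrest⟩ := h
    have ih := levels_bound ls (fixed ++ [b]) hrest
    have hed := slot10_edges es 0 hes
    have hgen : ∀ w ∈ ws, ∃ σ ∈ fixS fixed, ∀ i : Fin npts, (σ i).val = walk w i.val := by
      intro w hw
      obtain ⟨h1, h2⟩ := hws w hw
      obtain ⟨σ, hσ, e⟩ := walk_perm w h1
      refine ⟨σ, mem_fixS.2 ⟨hσ, fun q hq => Fin.ext ?_⟩, e⟩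
      rw [e]
      exact h2 _ hq
    have horb : ∀ k, k ≤ es.length →
        ∃ σ ∈ fixS fixed, (σ ⟨b, hb⟩).val = slot10 P k ∧ slot10 I (slot10 P k) = k := by
      intro k
      induction k using Nat.strong_induction_on with
      | _ k ih =>
        intro hk
        cases k with
        | zero => exact ⟨1, one_mem _, by rw [hP]; exact ⟨rfl, hI⟩⟩
        | succ j =>
          obtain ⟨h1, h2, h3, h4⟩ := hed j (by omega)
          rw [Nat.zero_add] at h1 h3 h4
          obtain ⟨σ, hσ, e1, -⟩ := ih _ (by omega : (es.getD j (0, 0)).1 < j + 1) (by omega)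
          obtain ⟨τ, hτ, e2⟩ := hgen (ws.getD (es.getD j (0, 0)).2 []) (by
            rw [List.getD_eq_getElem _ _ h2]; exact List.getElem_mem h2)
          exact ⟨τ * σ, mul_mem hτ hσ, by rw [Equiv.Perm.mul_apply, e2, e1, h3], h4⟩
    choose σ hσ e hI' using horb
    let F : Fin (es.length + 1) × fixS (fixed ++ [b]) → fixS fixed := fun p =>
      ⟨σ p.1.val (Nat.le_of_lt_succ p.1.isLt) * p.2.1,
        mul_mem (hσ _ _) (mem_fixS.2 ⟨(mem_fixS.1 p.2.2).1,
          fun q hq => (mem_fixS.1 p.2.2).2 q (List.mem_append_left _ hq)⟩)⟩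
    have hF : Function.Injective F := by
      rintro ⟨k, x⟩ ⟨l, y⟩ hkl
      have h0 : ∀ z : fixS (fixed ++ [b]), z.1 ⟨b, hb⟩ = ⟨b, hb⟩ := fun z =>
        (mem_fixS.1 z.2).2 _ (List.mem_append_right _ (by simp))
      have h1 : σ k.val (Nat.le_of_lt_succ k.isLt) * x.1 = σ l.val (Nat.le_of_lt_succ l.isLt) * y.1 :=
        congrArg Subtype.val hkl
      have h2 := congrArg (fun ρ : Equiv.Perm (Fin npts) => (ρ ⟨b, hb⟩).val) h1
      simp only [Equiv.Perm.mul_apply, h0, e] at h2
      have hkl' : k = l := Fin.ext (by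
        rw [← hI' k.val (Nat.le_of_lt_succ k.isLt), h2, hI' l.val (Nat.le_of_lt_succ l.isLt)])
      subst hkl'
      exact Prod.ext rfl (Subtype.ext (mul_left_cancel h1))
    have hc := Nat.card_le_card_of_injective F hF
    rw [Nat.card_prod, Nat.card_fin] at hc
    simp only [List.map_cons, List.prod_cons]
    exact le_trans (Nat.mul_le_mul_left _ ih) hc

theorem card_imgK : 634023936 ≤ Nat.card imgK := by
  have h := levels_ok
  simp only [Bool.and_eq_true, Nat.beq_eq] at h
  rw [← h.2]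
  exact (levels_bound levelTab [] h.1).trans (Nat.card_le_card_of_injective
    (Subgroup.inclusion (fun σ hσ => (mem_fixS.1 hσ).1)) (Subgroup.inclusion_injective _))

theorem nbr_lt {i j : ℕ} (hi : i < npts) (hj : j ∈ nbr i) : j < npts := by
  have h := List.all_eq_true.1 nbr_a_ok i (List.mem_range.2 hi)
  simp only [Bool.and_eq_true, List.all_eq_true, Nat.blt_eq] at h
  exact h.1.2 j hj

theorem incrN_pairwise : ∀ l : List ℕ, incrN l = true → l.Pairwise (· < ·)
  | [], _ => List.Pairwise.nil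
  | [a], _ => List.pairwise_singleton _ a
  | a :: b :: l, h => by
    simp only [incrN, Bool.and_eq_true, Nat.blt_eq] at h
    have ih := incrN_pairwise (b :: l) h.2
    refine List.pairwise_cons.2 ⟨fun c hc => ?_, ih⟩
    rcases List.mem_cons.1 hc with rfl | hc
    · exact h.1
    · exact h.1.trans ((List.pairwise_cons.1 ih).1 c hc)

theorem testBit_maskOf (x : ℕ) : ∀ l : List ℕ, (maskOf l).testBit x = true ↔ x ∈ l
  | [] => by simp [maskOf]
  | a :: l => by
    rw [maskOf, Nat.testBit_or, Bool.or_eq_true, testBit_maskOf x l, List.mem_cons, Nat.one_shiftLeft,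
      Nat.testBit_two_pow, decide_eq_true_eq, eq_comm]

theorem nbr_all {g : ℕ} (hg : g < 7) : nbrOk g = true := by
  rcases (show g = 0 ∨ g = 1 ∨ g = 2 ∨ g = 3 ∨ g = 4 ∨ g = 5 ∨ g = 6 by omega) with
    rfl | rfl | rfl | rfl | rfl | rfl | rfl
  exacts [nbr_a_ok, nbr_b_ok, nbr_c_ok, nbr_d_ok, nbr_e_ok, nbr_s_ok, nbr_t_ok]

/-- A permutation, on numbers. -/
def appN (σ : Equiv.Perm (Fin npts)) (j : ℕ) : ℕ := if h : j < npts then (σ ⟨j, h⟩).val else j

theorem appN_val (σ : Equiv.Perm (Fin npts)) (i : Fin npts) : appN σ i.val = (σ i).val := dif_pos i.isLt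

/-- A permutation respects the lists of neighbours. -/
def RespN (σ : Equiv.Perm (Fin npts)) : Prop :=
  ∀ i : Fin npts, ((nbr i.val).map (appN σ)).Perm (nbr (σ i).val)

theorem map_appN_comp (σ τ : Equiv.Perm (Fin npts)) {l : List ℕ} (hl : ∀ j ∈ l, j < npts) :
    (l.map (appN τ)).map (appN σ) = l.map (appN (σ * τ)) := by
  rw [List.map_map]
  refine List.map_congr_left fun j hj => ?_
  simp [appN, hl j hj]

theorem respN_gen {g : ℕ} (hg : g < 7) : RespN (act (genK g)⁻¹) := by
  intro i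
  have h := List.all_eq_true.1 (nbr_all hg) i.val (List.mem_range.2 i.isLt)
  simp only [Bool.and_eq_true, List.all_eq_true, Nat.beq_eq] at h
  have hi' : (act (genK g)⁻¹ i).val < npts := (act (genK g)⁻¹ i).isLt
  have hn : ∀ {k}, k < npts → (nbr k).Nodup := fun {k} hk => by
    have h' := List.all_eq_true.1 nbr_a_ok k (List.mem_range.2 hk)
    simp only [Bool.and_eq_true] at h'
    exact (incrN_pairwise _ h'.1.1).imp (fun hab => Nat.ne_of_lt hab)
  have e : (nbr i.val).map (appN (act (genK g)⁻¹)) = (nbr i.val).map (tAt g) :=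
    List.map_congr_left fun j hj => by
      rw [appN, dif_pos (nbr_lt i.isLt hj), act_genK hg]
  refine (List.perm_ext_iff_of_nodup ?_ (hn hi')).2 fun x => ?_
  · refine List.Nodup.map_on (fun a ha b hb hab => ?_) (hn i.isLt)
    rw [appN, appN, dif_pos (nbr_lt i.isLt ha), dif_pos (nbr_lt i.isLt hb)] at hab
    exact congrArg Fin.val ((act (genK g)⁻¹).injective (Fin.ext hab))
  · rw [e, ← testBit_maskOf, ← testBit_maskOf, h.2, act_genK hg]

/-- The permutations respecting the lists of neighbours. -/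
def respSub : Subgroup (Equiv.Perm (Fin npts)) where
  carrier := {σ | RespN σ}
  one_mem' := fun i => List.Perm.of_eq (by
    rw [Equiv.Perm.one_apply]
    conv_rhs => rw [← List.map_id (nbr i.val)]
    exact List.map_congr_left fun j hj => by simp [appN, nbr_lt i.isLt hj])
  mul_mem' {σ τ} hσ hτ := fun i => by
    rw [← map_appN_comp σ τ (fun j hj => nbr_lt i.isLt hj)]
    exact ((hτ i).map _).trans (hσ (τ i))
  inv_mem' {σ} hσ := fun i => by
    have h := ((hσ (σ⁻¹ i)).map (appN σ⁻¹)).symm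
    rw [map_appN_comp σ⁻¹ σ (fun j hj => nbr_lt (σ⁻¹ i).isLt hj), inv_mul_cancel] at h
    rw [show σ (σ⁻¹ i) = i from σ.apply_symm_apply i] at h
    refine h.trans (List.Perm.of_eq ?_)
    conv_rhs => rw [← List.map_id (nbr (σ⁻¹ i).val)]
    exact List.map_congr_left fun j hj => by simp [appN, nbr_lt (σ⁻¹ i).isLt hj]

theorem imgK_resp : imgK ≤ respSub := by
  rw [imgK, Subgroup.map_le_iff_le_comap, grpK, Subgroup.closure_le]
  rintro x ⟨g, rfl⟩
  show act (genK g) ∈ respSub
  by_cases hg : g < 7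
  · have : act (genK g)⁻¹ ∈ respSub := respN_gen hg
    rw [map_inv] at this
    exact inv_mem_iff.1 this
  · rw [genK, dif_neg hg, map_one]
    exact one_mem _

/-- The members preserving a colouring. -/
noncomputable def colStab (C : ℕ) : Subgroup (Equiv.Perm (Fin npts)) where
  carrier := {σ | σ ∈ imgK ∧ ∀ i : Fin npts, colAt C (σ i).val = colAt C i.val}
  one_mem' := ⟨one_mem _, fun _ => rfl⟩
  mul_mem' {a b} ha hb := ⟨mul_mem ha.1 hb.1, fun i => by
    rw [Equiv.Perm.mul_apply, ha.2, hb.2]⟩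
  inv_mem' {a} ha := ⟨inv_mem ha.1, fun i => by
    have := (ha.2 (a⁻¹ i)).symm
    rwa [show a (a⁻¹ i) = i from a.apply_symm_apply i] at this⟩

theorem mem_colStab {C : ℕ} {σ : Equiv.Perm (Fin npts)} :
    σ ∈ colStab C ↔ σ ∈ imgK ∧ ∀ i : Fin npts, colAt C (σ i).val = colAt C i.val := Iff.rfl

theorem rounds_stab : ∀ (l : List ℕ) (C : ℕ), roundsOk C l = true → colStab C ≤ colStab (lastCol C l)
  | [], C, _ => le_rfl
  | D :: l, C, h => by
    simp only [roundsOk, Bool.and_eq_true, List.all_eq_true, List.mem_range, Nat.beq_eq] at h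
    refine le_trans (fun σ hσ => ?_) (rounds_stab l D h.2)
    obtain ⟨h1, h2⟩ := mem_colStab.1 hσ
    refine mem_colStab.2 ⟨h1, fun i => ?_⟩
    rw [h.1 _ (σ i).isLt, h.1 _ i.isLt, stepAt, stepAt, h2]
    refine congrArg (fun s => (colAt C i.val * 31337 + s) % 1048573) ?_
    rw [← (((imgK_resp h1) i).map fun j => wgt (colAt C j)).sum_eq, List.map_map]
    refine congrArg List.sum (List.map_congr_left fun j hj => ?_)
    simp only [Function.comp_apply, appN, dif_pos (nbr_lt i.isLt hj)]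
    rw [h2 ⟨j, _⟩]

theorem card_le_mul {G : Type*} [Group G] [Finite G] (S T : Subgroup G) {β : Type*} [Finite β]
    (f : S → β) (h : ∀ a b : S, f a = f b → (a.1)⁻¹ * b.1 ∈ T) :
    Nat.card S ≤ Nat.card β * Nat.card T := by
  classical
  let r : β → S := fun c => if hc : ∃ a, f a = c then hc.choose else 1
  have hr : ∀ a, f (r (f a)) = f a := fun a => by
    have hc : ∃ b, f b = f a := ⟨a, rfl⟩
    simp only [r, dif_pos hc]
    exact hc.choose_spec
  let F : S → β × T := fun a => (f a, ⟨(r (f a)).1⁻¹ * a.1, h _ _ (hr a)⟩)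
  have hF : Function.Injective F := fun a b hab => by
    simp only [F, Prod.mk.injEq, Subtype.mk.injEq] at hab
    obtain ⟨h1, h2⟩ := hab
    rw [h1] at h2
    exact Subtype.ext (mul_left_cancel h2)
  exact (Nat.card_le_card_of_injective F hF).trans (le_of_eq (Nat.card_prod _ _))

theorem stages_bound (O : ℕ × ℕ) : ∀ (st : List (ℕ × List ℕ × ℕ × List ℕ)) (C : ℕ),
    stagesOk O C st = true → (∀ s ∈ st, roundsOk s.2.2.1 s.2.2.2 = true) →
    Nat.card (colStab C) ≤ (st.map fun s => s.2.1.length).prod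
  | [], C, h, _ => by
    simp only [stagesOk] at h
    have : colStab C = ⊥ := by
      rw [Subgroup.eq_bot_iff_forall]
      intro σ hσ
      ext i
      exact distinct_spec h (σ i).isLt i.isLt ((mem_colStab.1 hσ).2 i)
    rw [this, Subgroup.card_bot]
    simp
  | (p, cls, D, l) :: rest, C, h, hr => by
    simp only [stagesOk, Bool.and_eq_true, Nat.blt_eq, List.all_eq_true, List.mem_range] at h
    obtain ⟨⟨⟨hp, hcls⟩, hD⟩, hrest⟩ := h
    have ih := stages_bound O rest (lastCol D l) hrest fun s hs => hr s (List.mem_cons_of_mem _ hs)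
    have hl : colStab D ≤ colStab (lastCol D l) := rounds_stab l D (hr (p, cls, D, l) List.mem_cons_self)
    have hmem : ∀ σ : colStab C, (σ.1 ⟨p, hp⟩).val ∈ cls := fun σ => by
      have := hcls _ (σ.1 ⟨p, hp⟩).isLt
      simp only [Bool.or_eq_true, Bool.not_eq_true', ← Bool.not_eq_true, Nat.beq_eq, memN_iff] at this
      exact this.resolve_left fun hne => hne ((mem_colStab.1 σ.2).2 ⟨p, hp⟩)
    let f : colStab C → Fin cls.length := fun σ =>
      ⟨cls.idxOf (σ.1 ⟨p, hp⟩).val, List.idxOf_lt_length_of_mem (hmem σ)⟩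
    have hf : ∀ a b : colStab C, f a = f b → (a.1)⁻¹ * b.1 ∈ colStab (lastCol D l) := by
      intro a b hab
      have he : a.1 ⟨p, hp⟩ = b.1 ⟨p, hp⟩ := by
        refine Fin.ext ?_
        have e1 := List.getElem_idxOf (List.idxOf_lt_length_of_mem (hmem a))
        have e2 := List.getElem_idxOf (List.idxOf_lt_length_of_mem (hmem b))
        rw [← e1, ← e2]
        simp only [f, Fin.mk.injEq] at hab
        simp only [hab]
      obtain ⟨hc1, hc2⟩ := mem_colStab.1 (mul_mem (inv_mem a.2) b.2)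
      refine hl (mem_colStab.2 ⟨hc1, fun i => ?_⟩)
      have hfix : (a.1⁻¹ * b.1) ⟨p, hp⟩ = ⟨p, hp⟩ := by
        rw [Equiv.Perm.mul_apply, ← he]; exact a.1.symm_apply_apply _
      rw [Nat.beq_eq.mp (hD _ ((a.1⁻¹ * b.1) i).isLt), Nat.beq_eq.mp (hD _ i.isLt), hc2]
      have key : ((a.1⁻¹ * b.1) i).val = p ↔ i.val = p := by
        constructor
        · intro e
          have : (a.1⁻¹ * b.1) i = (a.1⁻¹ * b.1) ⟨p, hp⟩ := by rw [hfix]; exact Fin.ext e
          exact congrArg Fin.val ((a.1⁻¹ * b.1).injective this)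
        · intro e
          rw [show i = ⟨p, hp⟩ from Fin.ext e, hfix]
      by_cases e : i.val = p
      · rw [if_pos (Nat.beq_eq.mpr (key.2 e)), if_pos (Nat.beq_eq.mpr e)]
      · rw [if_neg (fun hh => e (key.1 (Nat.beq_eq.mp hh))), if_neg (fun hh => e (Nat.beq_eq.mp hh))]
    refine (card_le_mul (colStab C) (colStab (lastCol D l)) f hf).trans ?_
    rw [Nat.card_fin, List.map_cons, List.prod_cons]
    exact Nat.mul_le_mul_left _ ih

end CfsgLib.ThInvol
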