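import Cfsg.Agent.Lib.ThInvol.Pack
import Cfsg.Agent.Lib.ThInvol.Data
import Cfsg.Agent.Lib.ThInvol.HexData
import Cfsg.Agent.Lib.ThInvol.PtData

/-!
# The checks on the 819 points
-/

set_option autoImplicit false

namespace CfsgLib.ThInvol

/-- The number of points. -/
abbrev npts : ℕ := 819

/-- The generator's packed matrix. -/
def gLit (g : ℕ) : ℕ := psiLits.getD g 0

/-- A power. -/
def mmPow (X : ℕ) : ℕ → ℕ
  | 0 => oneLit
  | n + 1 => mm (mmPow X n) X

/-- The packed inverse of a generator. -/
def gInv (g : ℕ) : ℕ := mmPow (gLit g) ([1, 1, 1, 1, 1, 6, 2].getD g 0)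

/-- Chunks of two to the power `k` fields are cut in two and moved apart. -/
def spreadStep (X k : ℕ) : ℕ :=
  (X ||| (X <<< (14 * 2 ^ k))) &&&
    ((4 ^ 2 ^ k - 1) * ((slot ^ 4096 - 1) / (slot ^ 2 ^ k - 1)))

/-- From two bits an entry to sixteen. -/
def spread (X : ℕ) : ℕ := [11, 10, 9, 8, 7, 6, 5, 4, 3, 2, 1, 0].foldl spreadStep X

/-- The packed matrix of a point. -/
def ptAt (i : ℕ) : ℕ := spread (ptCode i)

/-- Image of a point under a generator. -/
def tAt (g i : ℕ) : ℕ := (actTab.getD g 0 >>> (10 * i)) % 1024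

/-- Image of a point under a word. -/
def walk (w : List ℕ) (i : ℕ) : ℕ := w.foldl (fun j g => tAt g j) i

/-- Ten bits of a number. -/
def slot10 (X i : ℕ) : ℕ := (X >>> (10 * i)) % 1024

/-- The eighteen numbers of a row. -/
def unRow : ℕ → ℕ → List ℕ
  | 0, _ => []
  | n + 1, R => R % 1024 :: unRow n (R >>> 10)

/-- The list of neighbours of a point. -/
def nbr (i : ℕ) : List ℕ := unRow 18 ((nbrTab >>> (180 * i)) &&& (2 ^ 180 - 1))

/-- Membership among numbers. -/
def memN (a : ℕ) : List ℕ → Bool
  | [] => false
  | b :: l => Nat.beq a b || memN a l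

/-- A strictly increasing list. -/
def incrN : List ℕ → Bool
  | [] => true
  | [_] => true
  | a :: b :: l => Nat.blt a b && incrN (b :: l)

/-- The set of a list of numbers, as bits. -/
def maskOf : List ℕ → ℕ
  | [] => 0
  | a :: l => (1 <<< a) ||| maskOf l

/-- A function takes distinct values below `n`, shown by an increasing listing. -/
def distinctOk (n : ℕ) (f : ℕ → ℕ) (O : ℕ × ℕ) : Bool :=
  (List.range n).all fun k => Nat.blt (slot10 O.1 k) n && Nat.beq (slot10 O.2 (slot10 O.1 k)) k &&
    (Nat.ble n (k + 1) || Nat.blt (f (slot10 O.1 k)) (f (slot10 O.1 (k + 1))))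

/-- A colour. -/
def colAt (C i : ℕ) : ℕ := (C >>> (21 * i)) % 2097152

/-- The weight of a colour. -/
def wgt (c : ℕ) : ℕ := (c * c * c + 7 * c * c + 12345 * c + 99991) % 1048573

/-- The refined colour of a point. -/
def stepAt (C i : ℕ) : ℕ := (colAt C i * 31337 + ((nbr i).map fun j => wgt (colAt C j)).sum) % 1048573

/-- A list of refinements. -/
def roundsOk : ℕ → List ℕ → Bool
  | _, [] => true
  | C, D :: l => ((List.range npts).all fun i => Nat.beq (colAt D i) (stepAt C i)) && roundsOk D l

/-- The last refinement. -/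
def lastCol : ℕ → List ℕ → ℕ
  | C, [] => C
  | _, D :: l => lastCol D l

/-- The refinements after the `k`th individualisation. -/
def stageRoundsOk (st : List (ℕ × List ℕ × ℕ × List ℕ)) (k : ℕ) : Bool :=
  roundsOk (st.getD k (0, [], 0, [])).2.2.1 (st.getD k (0, [], 0, [])).2.2.2

/-- A sequence of individualised points ending in distinct colours. -/
def stagesOk (O : ℕ × ℕ) : ℕ → List (ℕ × List ℕ × ℕ × List ℕ) → Bool
  | C, [] => distinctOk npts (colAt C) O
  | C, (p, cls, D, l) :: rest =>
    Nat.blt p npts &&
      ((List.range npts).all fun i => (!Nat.beq (colAt C i) (colAt C p)) || memN i cls) &&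
      ((List.range npts).all fun i =>
        Nat.beq (colAt D i) (if Nat.beq i p then 1048573 else colAt C i)) &&
      stagesOk O (lastCol D l) rest

/-- The points of a level. -/
abbrev LevelT : Type := ℕ × List (List ℕ) × ℕ × ℕ × List (ℕ × ℕ)

/-- The edges build the orbit, point `k + 1` from an earlier one. -/
def edgesOk (ws : List (List ℕ)) (P I : ℕ) : ℕ → List (ℕ × ℕ) → Bool
  | _, [] => true
  | k, (p, j) :: es =>
    Nat.ble p k && Nat.blt j ws.length && Nat.beq (slot10 P (k + 1)) (walk (ws.getD j []) (slot10 P p)) &&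
      Nat.beq (slot10 I (slot10 P (k + 1))) (k + 1) && edgesOk ws P I (k + 1) es

/-- A chain of orbits below the fixed points. -/
def levelsOk : List ℕ → List LevelT → Bool
  | _, [] => true
  | fixed, (b, ws, P, I, es) :: rest =>
    Nat.blt b npts && Nat.beq (slot10 P 0) b && Nat.beq (slot10 I b) 0 &&
      (ws.all fun w => (w.all fun g => Nat.blt g 7) && fixed.all fun f => Nat.beq (walk w f) f) &&
      edgesOk ws P I 0 es && levelsOk (fixed ++ [b]) rest

/-- The size of a chunk of points. -/
abbrev chunk : ℕ := 117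

/-- The colours of a square are its traces against the points of a chunk. -/
def colourOk (C Y c : ℕ) : Bool :=
  (List.range chunk).all fun k =>
    Nat.beq (colAt C (chunk * c + k)) (tr (mm (ptAt (chunk * c + k)) Y) % 3)

/-- The points of a chunk are permuted by a generator as tabulated. -/
def equivOk (g c : ℕ) : Bool :=
  (List.range chunk).all fun k => Nat.blt (tAt g (chunk * c + k)) npts &&
    Nat.beq (mm (ptAt (chunk * c + k)) (gLit g)) (mm (gLit g) (ptAt (tAt g (chunk * c + k))))

/-- The points of a chunk come from their parents in the tree. -/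
def treeEqOk (c : ℕ) : Bool :=
  (List.range chunk).all fun k =>
    Nat.ble 818 (chunk * c + k) ||
      Nat.beq (ptAt (chunk * c + k + 1))
        (mm (mm (gInv (treeTab.getD (chunk * c + k) (0, 0)).2) (ptAt (treeTab.getD (chunk * c + k) (0, 0)).1))
          (gLit (treeTab.getD (chunk * c + k) (0, 0)).2))

/-- The lists of neighbours are permuted by a generator. -/
def nbrOk (g : ℕ) : Bool :=
  (List.range npts).all fun i => incrN (nbr i) && ((nbr i).all fun j => Nat.blt j npts) &&
    Nat.beq (maskOf ((nbr i).map (tAt g))) (maskOf (nbr (tAt g i)))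

/-- The edges of the tree come from earlier points. -/
def treeGo : ℕ → List (ℕ × ℕ) → Bool
  | _, [] => true
  | k, (p, g) :: es => Nat.ble p k && Nat.blt g 7 && treeGo (k + 1) es

/-- The tree gives every point, each from an earlier one. -/
def treeOk : Bool := Nat.beq treeTab.length 818 && treeGo 0 treeTab

end CfsgLib.ThInvol
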