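import Cfsg.Agent.Lib.ThInvol.HexDefs

/-!
# The points, checked
-/

set_option autoImplicit false
set_option maxRecDepth 100000

namespace CfsgLib.ThInvol

theorem equiv3_ok0 : equivOk 3 0 = true := by decide +kernel

theorem equiv3_ok1 : equivOk 3 1 = true := by decide +kernel

theorem equiv3_ok2 : equivOk 3 2 = true := by decide +kernel

theorem equiv3_ok3 : equivOk 3 3 = true := by decide +kernel

theorem equiv3_ok4 : equivOk 3 4 = true := by decide +kernel

theorem equiv3_ok5 : equivOk 3 5 = true := by decide +kernel

theorem equiv3_ok6 : equivOk 3 6 = true := by decide +kernel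

end CfsgLib.ThInvol
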