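import Cfsg.Agent.Lib.ThInvol.HexDefs

/-!
# The points, checked
-/

set_option autoImplicit false
set_option maxRecDepth 100000

namespace CfsgLib.ThInvol

theorem treeEq_ok4 : treeEqOk 4 = true := by decide +kernel

theorem treeEq_ok5 : treeEqOk 5 = true := by decide +kernel

theorem treeEq_ok6 : treeEqOk 6 = true := by decide +kernel

end CfsgLib.ThInvol
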