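import Cfsg.Agent.Lib.ThInvol.Bridge
import Cfsg.Agent.Lib.ThInvol.HexCheckA
import Cfsg.Agent.Lib.ThInvol.HexEquiv0
import Cfsg.Agent.Lib.ThInvol.HexEquiv1
import Cfsg.Agent.Lib.ThInvol.HexEquiv2
import Cfsg.Agent.Lib.ThInvol.HexEquiv3
import Cfsg.Agent.Lib.ThInvol.HexEquiv4
import Cfsg.Agent.Lib.ThInvol.HexEquiv5
import Cfsg.Agent.Lib.ThInvol.HexEquiv6
import Cfsg.Agent.Lib.ThInvol.HexTreeA
import Cfsg.Agent.Lib.ThInvol.HexTreeB
import Mathlib.SetTheory.Cardinal.Finite

/-!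
# The 819 points and the permutations on them
-/

set_option autoImplicit false
set_option maxRecDepth 10000

namespace CfsgLib.ThInvol

open Cfsg.Spor Matrix

attribute [local irreducible] psiLits oneLit yLits actTab treeTab nbrTab levelTab piMat ioMat psi rhoM mm decM elt ptAt

theorem Rep.num_eq {X Y : ℕ} {M : Matrix (Fin 52) (Fin 52) (ZMod 3)} (h : Rep X M) (h' : Rep Y M) :
    X = Y := by
  obtain ⟨f, hf, hM⟩ := h
  obtain ⟨g, hg, hN⟩ := h'
  rw [hf.eq, hg.eq]
  refine encF_congr fun t ht => ?_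
  simp only [cells] at ht
  have e := (hM ⟨t / 52, by omega⟩ ⟨t % 52, by omega⟩).symm.trans (hN ⟨t / 52, by omega⟩ ⟨t % 52, by omega⟩)
  simp only [show 52 * (t / 52) + t % 52 = t by omega] at e
  have := congrArg ZMod.val e
  rwa [ZMod.val_natCast, ZMod.val_natCast, Nat.mod_eq_of_lt (hf.small t),
    Nat.mod_eq_of_lt (hg.small t)] at this

theorem psiLits_length : psiLits.length = 7 := by unfold psiLits; rfl

theorem lit_okM {X : ℕ} (h : X ∈ psiLits ++ [oneLit] ++ yLits) : okM X = true :=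
  List.all_eq_true.1 lits_ok X h

theorem rep_one : Rep oneLit 1 := decM_one ▸ rep_decM (lit_okM (by simp))

theorem rep_gLit {g : ℕ} (hg : g < 7) : Rep (gLit g) (psi (elt [2 * g])) := by
  have e : sqLits.getD g 0 = gLit g := by
    rw [gLit, sqLits, List.append_assoc, List.getD_append _ _ _ _ (by rw [psiLits_length]; exact hg)]
  rw [psi_gen hg, e]
  refine rep_decM (lit_okM ?_)
  rw [gLit, List.getD_eq_getElem _ _ (by rw [psiLits_length]; exact hg)]
  exact List.mem_append_left _ (List.mem_append_left _ (List.getElem_mem _))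

theorem psi_inv_mul {x : Cfsg.Spor.Th} (hx : x ∈ respects) : psi x⁻¹ * psi x = 1 := by
  rw [← psi_mul_right _ hx, inv_mul_cancel, psi_one]

theorem psi_mul_inv {x : Cfsg.Spor.Th} (hx : x ∈ respects) : psi x * psi x⁻¹ = 1 := by
  rw [← psi_mul hx, mul_inv_cancel, psi_one]

theorem rep_mmPow {X : ℕ} {M : Matrix (Fin 52) (Fin 52) (ZMod 3)} (h : Rep X M) :
    ∀ n, ∃ N, Rep (mmPow X n) N
  | 0 => ⟨1, rep_one⟩
  | n + 1 => by
    obtain ⟨N, hN⟩ := rep_mmPow h n
    exact ⟨N * M, by rw [mmPow]; exact hN.mul h⟩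

theorem rep_gInv {g : ℕ} (hg : g < 7) : Rep (gInv g) (psi (elt [2 * g])⁻¹) := by
  obtain ⟨N, hN⟩ := rep_mmPow (rep_gLit hg) ([1, 1, 1, 1, 1, 6, 2].getD g 0)
  have h := List.all_eq_true.1 inv_ok g (List.mem_range.2 hg)
  simp only [Bool.and_eq_true, Nat.beq_eq] at h
  have e : N * psi (elt [2 * g]) = 1 := by
    have := hN.mul (rep_gLit hg)
    rw [show mmPow (gLit g) ([1, 1, 1, 1, 1, 6, 2].getD g 0) = gInv g from rfl, h.1] at this
    exact (rep_one.eq this).symm
  have : N = psi (elt [2 * g])⁻¹ := by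
    calc N = N * (psi (elt [2 * g]) * psi (elt [2 * g])⁻¹) := by rw [psi_mul_inv (gen_mem hg), Matrix.mul_one]
      _ = psi (elt [2 * g])⁻¹ := by rw [← Matrix.mul_assoc, e, Matrix.one_mul]
  exact this ▸ hN

/-- A packed matrix of a member of the subgroup. -/
def IsPt (X : ℕ) : Prop := ∃ x ∈ respects, Rep X (psi x)

theorem treeGo_spec : ∀ (es : List (ℕ × ℕ)) (k : ℕ), treeGo k es = true →
    ∀ j, j < es.length → (es.getD j (0, 0)).1 ≤ k + j ∧ (es.getD j (0, 0)).2 < 7
  | [], _, _, j, hj => absurd hj (by simp)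
  | (p, g) :: es, k, h, j, hj => by
    simp only [treeGo, Bool.and_eq_true, Nat.ble_eq, Nat.blt_eq] at h
    cases j with
    | zero => simpa using h.1
    | succ j =>
      have := treeGo_spec es (k + 1) h.2 j (by simpa using hj)
      simp only [List.getD_cons_succ]
      exact ⟨by omega, this.2⟩

theorem treeEq_all {c : ℕ} (hc : c < 7) : treeEqOk c = true := by
  rcases (show c = 0 ∨ c = 1 ∨ c = 2 ∨ c = 3 ∨ c = 4 ∨ c = 5 ∨ c = 6 by omega) with
    rfl | rfl | rfl | rfl | rfl | rfl | rfl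
  exacts [treeEq_ok0, treeEq_ok1, treeEq_ok2, treeEq_ok3, treeEq_ok4, treeEq_ok5, treeEq_ok6]

theorem pt_exists_nat : ∀ i, i < npts → IsPt (ptAt i) := by
  intro i
  induction i using Nat.strong_induction_on with
  | _ i ih =>
    intro hi
    cases i with
    | zero =>
      rw [Nat.beq_eq.mp root_ok]
      exact ⟨elt [0], gen_mem (i := 0) (by norm_num), rep_gLit (g := 0) (by norm_num)⟩
    | succ k =>
      have ht := tree_ok
      simp only [treeOk, Bool.and_eq_true, Nat.beq_eq] at ht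
      simp only [npts] at hi
      obtain ⟨h1, h2⟩ := treeGo_spec treeTab 0 ht.2 k (by omega)
      have he := List.all_eq_true.1 (treeEq_all (c := k / chunk) (by simp only [chunk]; omega)) (k % chunk)
        (List.mem_range.2 (Nat.mod_lt _ (by norm_num [chunk])))
      rw [Nat.div_add_mod] at he
      simp only [Bool.or_eq_true, Nat.ble_eq, Nat.beq_eq] at he
      rcases he with he | he
      · omega
      rw [he]
      set p := (treeTab.getD k (0, 0)).1
      set g := (treeTab.getD k (0, 0)).2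
      obtain ⟨x, hx, hX⟩ := ih p (by omega) (by simp only [npts]; omega)
      refine ⟨(elt [2 * g])⁻¹ * x * elt [2 * g],
        mul_mem (mul_mem (inv_mem (gen_mem h2)) hx) (gen_mem h2), ?_⟩
      rw [psi_mul (mul_mem (inv_mem (gen_mem h2)) hx), psi_mul (inv_mem (gen_mem h2))]
      exact ((rep_gInv h2).mul hX).mul (rep_gLit h2)

theorem pt_exists (i : Fin npts) : IsPt (ptAt i.val) := pt_exists_nat i.val i.isLt

/-- The matrix of a point. -/
noncomputable def ptM (i : Fin npts) : Matrix (Fin 52) (Fin 52) (ZMod 3) := psi (pt_exists i).choose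

theorem rep_ptM (i : Fin npts) : Rep (ptAt i.val) (ptM i) := (pt_exists i).choose_spec.2

theorem memN_iff (a : ℕ) : ∀ l : List ℕ, memN a l = true ↔ a ∈ l
  | [] => by simp [memN]
  | b :: l => by simp [memN, memN_iff a l, Nat.beq_eq]

theorem distinct_spec {n : ℕ} {f : ℕ → ℕ} {O : ℕ × ℕ} (h : distinctOk n f O = true) {i j : ℕ}
    (hi : i < n) (hj : j < n) (e : f i = f j) : i = j := by
  simp only [distinctOk, List.all_eq_true, List.mem_range, Bool.and_eq_true, Bool.or_eq_true,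
    Nat.blt_eq, Nat.beq_eq, Nat.ble_eq] at h
  let F : Fin n → Fin n := fun k => ⟨slot10 O.1 k.val, (h k.val k.isLt).1.1⟩
  have hF : Function.Injective F := fun k l ekl => Fin.ext (by
    rw [← (h k.val k.isLt).1.2, ← (h l.val l.isLt).1.2]
    exact congrArg (fun x : Fin n => slot10 O.2 x.val) ekl)
  have mono : ∀ l, l < n → ∀ k, k < l → f (slot10 O.1 k) < f (slot10 O.1 l) := by
    intro l
    induction l with
    | zero => omega
    | succ l ih =>
      intro hl k hk
      have h1 := ((h l (by omega)).2).resolve_left (by omega)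
      rcases Nat.lt_or_ge k l with hkl | hkl
      · exact (ih (by omega) k hkl).trans h1
      · rw [show k = l by omega]; exact h1
  obtain ⟨⟨k, hk⟩, ek⟩ := Finite.surjective_of_injective hF ⟨i, hi⟩
  obtain ⟨⟨l, hl⟩, el⟩ := Finite.surjective_of_injective hF ⟨j, hj⟩
  have ek' : slot10 O.1 k = i := congrArg Fin.val ek
  have el' : slot10 O.1 l = j := congrArg Fin.val el
  rcases lt_trichotomy k l with hkl | rfl | hkl
  · exact absurd (mono l hl k hkl) (by rw [ek', el', e]; exact lt_irrefl _)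
  · exact ek'.symm.trans el'
  · exact absurd (mono k hk l hkl) (by rw [ek', el', e]; exact lt_irrefl _)

theorem ptM_inj : Function.Injective ptM := by
  intro i j h
  have e : ptAt i.val = ptAt j.val := (rep_ptM i).num_eq (h ▸ rep_ptM j)
  exact Fin.ext (distinct_spec pts_distinct i.isLt j.isLt e)

theorem equiv_all {g c : ℕ} (hg : g < 7) (hc : c < 7) : equivOk g c = true := by
  rcases (show g = 0 ∨ g = 1 ∨ g = 2 ∨ g = 3 ∨ g = 4 ∨ g = 5 ∨ g = 6 by omega) with
    rfl | rfl | rfl | rfl | rfl | rfl | rfl <;>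
  rcases (show c = 0 ∨ c = 1 ∨ c = 2 ∨ c = 3 ∨ c = 4 ∨ c = 5 ∨ c = 6 by omega) with
    rfl | rfl | rfl | rfl | rfl | rfl | rfl
  exacts [equiv0_ok0, equiv0_ok1, equiv0_ok2, equiv0_ok3, equiv0_ok4, equiv0_ok5, equiv0_ok6, equiv1_ok0, equiv1_ok1, equiv1_ok2, equiv1_ok3, equiv1_ok4, equiv1_ok5, equiv1_ok6, equiv2_ok0, equiv2_ok1, equiv2_ok2, equiv2_ok3, equiv2_ok4, equiv2_ok5, equiv2_ok6, equiv3_ok0, equiv3_ok1, equiv3_ok2, equiv3_ok3, equiv3_ok4, equiv3_ok5, equiv3_ok6, equiv4_ok0, equiv4_ok1, equiv4_ok2, equiv4_ok3, equiv4_ok4, equiv4_ok5, equiv4_ok6, equiv5_ok0, equiv5_ok1, equiv5_ok2, equiv5_ok3, equiv5_ok4, equiv5_ok5, equiv5_ok6, equiv6_ok0, equiv6_ok1, equiv6_ok2, equiv6_ok3, equiv6_ok4, equiv6_ok5, equiv6_ok6]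

theorem equiv_at {g i : ℕ} (hg : g < 7) (hi : i < npts) :
    tAt g i < npts ∧ mm (ptAt i) (gLit g) = mm (gLit g) (ptAt (tAt g i)) := by
  have h := List.all_eq_true.1 (equiv_all hg (c := i / chunk) (by simp only [chunk, npts] at *; omega))
    (i % chunk) (List.mem_range.2 (Nat.mod_lt _ (by norm_num [chunk])))
  rw [Nat.div_add_mod] at h
  simpa only [Bool.and_eq_true, Nat.blt_eq, Nat.beq_eq] using h

theorem tAt_lt {g i : ℕ} (hg : g < 7) (hi : i < npts) : tAt g i < npts := (equiv_at hg hi).1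

theorem ptM_gen {g : ℕ} (hg : g < 7) (i : Fin npts) :
    ptM i * psi (elt [2 * g]) = psi (elt [2 * g]) * ptM ⟨tAt g i.val, tAt_lt hg i.isLt⟩ :=
  ((rep_ptM i).mul (rep_gLit hg)).eq
    ((equiv_at hg i.isLt).2 ▸ (rep_gLit hg).mul (rep_ptM ⟨_, tAt_lt hg i.isLt⟩))

theorem rel_unique {m : Cfsg.Spor.Th} (hm : m ∈ respects) {i j j' : Fin npts}
    (h : ptM i * psi m = psi m * ptM j) (h' : ptM i * psi m = psi m * ptM j') : j = j' := by
  refine ptM_inj ?_
  have := congrArg (fun M => psi m⁻¹ * M) (h.symm.trans h')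
  simpa only [← Matrix.mul_assoc, psi_inv_mul hm, Matrix.one_mul] using this

theorem rel_left_unique {m : Cfsg.Spor.Th} (hm : m ∈ respects) {i i' j : Fin npts}
    (h : ptM i * psi m = psi m * ptM j) (h' : ptM i' * psi m = psi m * ptM j) : i = i' := by
  refine ptM_inj ?_
  have := congrArg (fun M => M * psi m⁻¹) (h.trans h'.symm)
  simpa only [Matrix.mul_assoc, psi_mul_inv hm, Matrix.mul_one] using this

/-- The members that permute the points. -/
def moves : Subgroup Cfsg.Spor.Th where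
  carrier := {m | m ∈ respects ∧ ∀ i, ∃ j, ptM i * psi m = psi m * ptM j}
  one_mem' := ⟨one_mem _, fun i => ⟨i, by rw [psi_one, Matrix.mul_one, Matrix.one_mul]⟩⟩
  mul_mem' {m n} hm hn := ⟨mul_mem hm.1 hn.1, fun i => by
    obtain ⟨j, hj⟩ := hm.2 i
    obtain ⟨k, hk⟩ := hn.2 j
    exact ⟨k, by rw [psi_mul hm.1, ← Matrix.mul_assoc, hj, Matrix.mul_assoc, hk, ← Matrix.mul_assoc]⟩⟩
  inv_mem' {m} hm := ⟨inv_mem hm.1, fun k => by
    choose F hF using hm.2
    have hinj : Function.Injective F := fun i i' e => rel_left_unique hm.1 (hF i) (e ▸ hF i')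
    obtain ⟨i, rfl⟩ := Finite.surjective_of_injective hinj k
    refine ⟨i, ?_⟩
    calc ptM (F i) * psi m⁻¹ = psi m⁻¹ * (psi m * ptM (F i)) * psi m⁻¹ := by
          rw [← Matrix.mul_assoc (psi m⁻¹), psi_inv_mul hm.1, Matrix.one_mul]
      _ = psi m⁻¹ * ptM i := by
          rw [← hF i, Matrix.mul_assoc (psi m⁻¹), Matrix.mul_assoc (ptM i), psi_mul_inv hm.1, Matrix.mul_one]⟩

theorem mem_moves {m : Cfsg.Spor.Th} :
    m ∈ moves ↔ m ∈ respects ∧ ∀ i, ∃ j, ptM i * psi m = psi m * ptM j := Iff.rfl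

theorem gen_moves {g : ℕ} (hg : g < 7) : elt [2 * g] ∈ moves :=
  mem_moves.2 ⟨gen_mem hg, fun i => ⟨_, ptM_gen hg i⟩⟩

/-- The image of a point. -/
noncomputable def imgPt (m : moves) (i : Fin npts) : Fin npts :=
  ((mem_moves.1 (m⁻¹).2).2 i).choose

theorem imgPt_spec (m : moves) (i : Fin npts) :
    ptM i * psi (m⁻¹ : moves).1 = psi (m⁻¹ : moves).1 * ptM (imgPt m i) :=
  ((mem_moves.1 (m⁻¹).2).2 i).choose_spec

theorem imgPt_one (i : Fin npts) : imgPt 1 i = i :=
  rel_unique (mem_moves.1 ((1 : moves)⁻¹).2).1 (imgPt_spec 1 i)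
    (by rw [inv_one, Subgroup.coe_one, psi_one, Matrix.mul_one, Matrix.one_mul])

theorem imgPt_mul (m n : moves) (i : Fin npts) : imgPt (m * n) i = imgPt m (imgPt n i) := by
  have hn := (mem_moves.1 (n⁻¹).2).1
  refine rel_unique (mem_moves.1 ((m * n)⁻¹).2).1 (imgPt_spec _ i) ?_
  rw [_root_.mul_inv_rev, Subgroup.coe_mul, psi_mul hn, ← Matrix.mul_assoc, imgPt_spec n i, Matrix.mul_assoc,
    imgPt_spec m, ← Matrix.mul_assoc]

/-- The permutation of the points. -/
noncomputable def act : moves →* Equiv.Perm (Fin npts) where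
  toFun m := ⟨imgPt m, imgPt m⁻¹,
    fun i => by rw [← imgPt_mul, inv_mul_cancel, imgPt_one],
    fun i => by rw [← imgPt_mul, mul_inv_cancel, imgPt_one]⟩
  map_one' := Equiv.ext imgPt_one
  map_mul' m n := Equiv.ext fun i => imgPt_mul m n i

theorem act_inv {m : moves} {i j : Fin npts} (h : ptM i * psi m.1 = psi m.1 * ptM j) :
    act m⁻¹ i = j := by
  refine rel_unique (mem_moves.1 ((m⁻¹)⁻¹).2).1 (imgPt_spec _ i) ?_
  rwa [inv_inv]

/-- A generator. -/
noncomputable def genK (g : ℕ) : moves := if hg : g < 7 then ⟨elt [2 * g], gen_moves hg⟩ else 1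

/-- The subgroup on the seven generators. -/
noncomputable def grpK : Subgroup moves := Subgroup.closure (Set.range genK)

theorem act_genK {g : ℕ} (hg : g < 7) (i : Fin npts) :
    (act (genK g)⁻¹ i).val = tAt g i.val := by
  rw [act_inv (j := ⟨tAt g i.val, tAt_lt hg i.isLt⟩)]
  rw [genK, dif_pos hg]
  exact ptM_gen hg i

theorem act_word : ∀ (w : List ℕ), (∀ g ∈ w, g < 7) →
    ∀ i : Fin npts, (act ((w.map genK).prod)⁻¹ i).val = walk w i.val
  | [], _, i => by rw [List.map_nil, List.prod_nil, inv_one, map_one]; rfl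
  | g :: w, h, i => by
    rw [List.map_cons, List.prod_cons, _root_.mul_inv_rev, map_mul, Equiv.Perm.mul_apply,
      act_word w (fun x hx => h x (List.mem_cons_of_mem _ hx)), act_genK (h g List.mem_cons_self)]
    rfl

end CfsgLib.ThInvol
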